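import Groth.Agent.HMCrit.Points
import Groth.Agent.S16480

/-!
# Every affine algebraic group is a closed subgroup of some special linear group
-/

set_option autoImplicit false
set_option linter.unusedSectionVars false

universe u v w
open TensorProduct CoordGrp WithConv Groth.Agent.Comod Groth.Agent.GLForms Matrix
noncomputable section

namespace Groth.Agent.HMCrit

variable {k : Type u} [Field k]

/-- Bordering by the inverse determinant. -/
def border (n : ℕ) : Matrix (Fin (n + 1)) (Fin (n + 1)) (GLn n k) :=
  (Matrix.fromBlocks (GLn.genMat n k) 0 0 (Matrix.of fun _ _ : Fin 1 => GLn.Dinv)).submatrix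
    finSumFinEquiv.symm finSumFinEquiv.symm

lemma isCorep_border (n : ℕ) : IsCorep (k := k) (border (k := k) n) where
  map_comul := by
    simp only [border, ← submatrix_map, submatrix_mul_equiv, fromBlocks_map, fromBlocks_multiply]
    congr 2
    · ext i j
      simp [GLn.genMat, GLn.comul_X, Matrix.mul_apply]
    · ext i j; simp [Matrix.mul_apply]
    · ext i j; simp [Matrix.mul_apply]
    · ext i j
      simp [GLn.comul_Dinv, Matrix.mul_apply]
  map_counit := by
    have h : (Matrix.fromBlocks (GLn.genMat n k) 0 0 (Matrix.of fun _ _ : Fin 1 => GLn.Dinv)).map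
        (Bialgebra.counitAlgHom k (GLn n k)) = 1 := by
      rw [fromBlocks_map, ← fromBlocks_one]
      congr 1
      · ext i j
        rw [Matrix.map_apply, Bialgebra.counitAlgHom_apply]
        exact (GLn.counit_X i j).trans (Matrix.one_apply ..).symm
      · ext i j
        rw [Matrix.map_apply, Matrix.of_apply, Bialgebra.counitAlgHom_apply]
        exact GLn.counit_Dinv.trans (by rw [Subsingleton.elim i j, Matrix.one_apply_eq])
    rw [border, ← submatrix_map, h, submatrix_one_equiv]

lemma det_border (n : ℕ) : (border (k := k) n).det = 1 := by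
  rw [border, det_submatrix_equiv_self, det_fromBlocks_zero₂₁, ← GLn.det_eq, Matrix.det_fin_one,
    Matrix.of_apply, GLn.det_mul_Dinv]

theorem exists_surj_SLn (A : Type u) [CommRing A] [HopfAlgebra k A] [Algebra.FiniteType k A] :
    ∃ (n : ℕ) (q : SLn (n + 1) k →ₐc[k] A), Function.Surjective q := by
  obtain ⟨n, π, hπ⟩ := S16480.result k A
  refine ⟨n, π.comp (ptBialg (border n) (det_border n) (isCorep_border n)), hπ.comp ?_⟩
  let φ : SLn (n + 1) k →ₐ[k] GLn n k :=
    ((ptBialg (L := GLn n k) (border n) (det_border n) (isCorep_border n) : SLn (n + 1) k →ₐc[k] GLn n k) :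
      SLn (n + 1) k →ₐ[k] GLn n k)
  have hX : ∀ i j : Fin n, GLn.X i j ∈ φ.range := fun i j =>
    ⟨SLn.X (finSumFinEquiv (Sum.inl i)) (finSumFinEquiv (Sum.inl j)), (ptBialg_X (border n) (det_border n) (isCorep_border n) _ _).trans (by simp [border, GLn.genMat])⟩
  have hD : (GLn.Dinv : GLn n k) ∈ φ.range :=
    ⟨SLn.X (finSumFinEquiv (Sum.inr 0)) (finSumFinEquiv (Sum.inr 0)), (ptBialg_X (border n) (det_border n) (isCorep_border n) _ _).trans (by simp [border])⟩
  intro x
  obtain ⟨g, rfl⟩ := Ideal.Quotient.mk_surjective x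
  let ψ : MvPolynomial (GLPoly.Idx n) k →ₐ[k] GLn n k := GLn.mk n k
  suffices h : ∀ g, ψ g ∈ φ.range from AlgHom.mem_range _ |>.1 (h g)
  intro g
  induction g using MvPolynomial.induction_on with
  | C r => rw [← MvPolynomial.algebraMap_eq, AlgHom.commutes]; exact φ.range.algebraMap_mem _
  | add p q hp hq => rw [map_add]; exact add_mem hp hq
  | mul_X p s hp =>
    rw [map_mul]
    refine mul_mem hp ?_
    rcases s with ⟨i, j⟩ | u
    · exact hX i j
    · exact hD

end Groth.Agent.HMCrit
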