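import Groth.Agent.HMCrit.Space
import Groth.Agent.Comod.Coeff

/-!
# A representation of a reductive subgroup splits off the restriction of one of the whole group
-/

set_option autoImplicit false
set_option linter.unusedSectionVars false

universe u
open TensorProduct CoordGrp Groth.Agent.Comod Matrix
noncomputable section

namespace Groth.Agent.HMCrit

variable {k : Type u} [Field k] {A : Type u} [CommRing A] [HopfAlgebra k A] {n : ℕ} (q : SLn n k →ₐc[k] A)

/-- Block diagonal copies of a corepresentation. -/
def copies {B : Type u} [CommRing B] {X J : Type*} [DecidableEq X] (M : Matrix J J B) :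
    Matrix (X × J) (X × J) B :=
  Matrix.of fun a b => if a.1 = b.1 then M a.2 b.2 else 0

lemma isCorep_copies {B : Type u} [CommRing B] [Bialgebra k B] {X J : Type*} [Fintype X] [DecidableEq X] [Fintype J]
    [DecidableEq J] {M : Matrix J J B} (hM : IsCorep (k := k) M) : IsCorep (k := k) (copies (X := X) M) := by
  constructor
  · refine Matrix.ext fun a b => ?_
    have h := congrFun (congrFun hM.map_comul a.2) b.2
    simp only [Matrix.map_apply, Matrix.mul_apply, copies, Matrix.of_apply] at h ⊢
    rw [Fintype.sum_prod_type, Finset.sum_eq_single a.1 (fun x _ hx => by simp [Ne.symm hx]) (by simp)]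
    by_cases hab : a.1 = b.1
    · simpa [hab] using h
    · simp [hab]
  · refine Matrix.ext fun a b => ?_
    have h := congrFun (congrFun hM.map_counit a.2) b.2
    simp only [Matrix.map_apply, copies, Matrix.of_apply] at h ⊢
    by_cases hab : a.1 = b.1
    · rw [if_pos hab, h]
      simp [Matrix.one_apply, Prod.ext_iff, hab]
    · rw [if_neg hab, map_zero, Matrix.one_apply_ne (fun e => hab (congrArg Prod.fst e))]

lemma isCorep_map_bialg {J : Type*} [Fintype J] [DecidableEq J] {M : Matrix J J (SLn n k)}
    (hM : IsCorep (k := k) M) : IsCorep (k := k) (M.map (qa q)) := by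
  constructor
  · refine Matrix.ext fun i j => ?_
    have := congrFun (congrFun hM.map_comul i) j
    simp only [Matrix.map_apply, Bialgebra.comulAlgHom_apply, Matrix.mul_apply] at this ⊢
    rw [show CoalgebraStruct.comul (R := k) (qa q (M i j)) = Algebra.TensorProduct.map (qa q) (qa q)
      (CoalgebraStruct.comul (M i j)) from (CoalgHomClass.map_comp_comul_apply q _).symm, this, map_sum]
    simp
  · refine Matrix.ext fun i j => ?_
    have := congrFun (congrFun hM.map_counit i) j
    simp only [Matrix.map_apply, Bialgebra.counitAlgHom_apply] at this ⊢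
    rw [← this]
    exact CoalgHomClass.counit_comp_apply q _

variable {ι : Type u} [Fintype ι] [DecidableEq ι]

/-- A representation of a linearly reductive subgroup is a split quotient of the restriction of a representation
of the whole group. -/
theorem exists_lift (hG : HopfRep.IsLinearlyReductive k A) (hq : Function.Surjective q) {P : Matrix ι ι A}
    (hP : IsCorep (k := k) P) :
    ∃ (J : Type u) (_ : Fintype J) (_ : DecidableEq J) (Q : Matrix J J (SLn n k)) (T : Matrix ι J k)
      (C : Matrix J ι k), IsCorep (k := k) Q ∧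
        P * T.map (algebraMap k A) = T.map (algebraMap k A) * Q.map (qa q) ∧ T * C = 1 := by
  classical
  choose b hb using fun p : ι × ι => hq (P p.1 p.2)
  obtain ⟨N, M, hM, hspan⟩ := exists_corep_of_finset k (Finset.univ.image b)
  have hc : ∀ p, ∃ c : Fin N × Fin N → k, ∑ r, c r • M r.1 r.2 = b p := fun p =>
    (Submodule.mem_span_range_iff_exists_fun k).1 (hspan _ (Finset.mem_image_of_mem b (Finset.mem_univ p)))
  choose c hc using hc
  let T₀ : Matrix ι ((ι × Fin N) × Fin N) k := Matrix.of fun i z => c (i, z.1.1) (z.2, z.1.2)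
  let C : Matrix ((ι × Fin N) × Fin N) ι k := Matrix.of fun z j => if z.1.1 = j ∧ z.1.2 = z.2 then 1 else 0
  let Qq := (copies (X := ι × Fin N) M).map (qa q)
  have hQ : IsCorep (k := k) Qq := isCorep_map_bialg q (isCorep_copies hM)
  have h0 : T₀.map (algebraMap k A) * Qq * C.map (algebraMap k A) = P := by
    refine Matrix.ext fun i j => ?_
    rw [← hb (i, j), ← hc (i, j), map_sum]
    simp only [Matrix.mul_apply, Matrix.map_apply, Qq, C, T₀, copies, Matrix.of_apply, apply_ite (algebraMap k A),
      map_one, map_zero, mul_ite, mul_one, mul_zero, apply_ite (qa q)]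
    rw [Fintype.sum_prod_type, Fintype.sum_prod_type, Fintype.sum_prod_type, Finset.sum_eq_single j
      (fun x _ hx => by simp [hx]) (by simp), Finset.sum_comm]
    conv_rhs => rw [Finset.sum_comm]
    refine Finset.sum_congr rfl fun b _ => ?_
    rw [Finset.sum_eq_single b (fun y _ hy => by simp [hy, hy.symm]) (by simp), if_pos ⟨rfl, rfl⟩,
      Fintype.sum_prod_type, Finset.sum_eq_single (j, b) (fun x _ hx => by simp [hx]) (by simp)]
    refine Finset.sum_congr rfl fun a _ => ?_
    rw [if_pos rfl, map_smul, Algebra.smul_def]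
    rfl
  obtain ⟨r⟩ := Comod.nonempty_integral hG
  let l := r.toFun
  let R := Matrix.fromBlocks P 0 0 Qq
  have hR : IsCorep (k := k) R := by
    constructor
    · simp only [R, fromBlocks_map, fromBlocks_multiply, Matrix.map_zero _ (map_zero _), Matrix.mul_zero, Matrix.zero_mul,
        add_zero, zero_add, hP.map_comul, hQ.map_comul]
    · simp only [R, fromBlocks_map, Matrix.map_zero _ (map_zero _), hP.map_counit, hQ.map_counit, fromBlocks_one]
  let T := (P * T₀.map (algebraMap k A) * Qq.map (HopfAlgebra.antipodeAlgHom k A)).map l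
  have hX : avg l R (fromBlocks 0 T₀ 0 0) = fromBlocks 0 T 0 0 := by
    simp only [avg, R, sc, fromBlocks_map, Matrix.map_zero _ (map_zero _), fromBlocks_multiply, Matrix.mul_zero,
      Matrix.zero_mul, add_zero, zero_add, T]
  have hcomm := avg_comm hR (l := l) (fun a => r.right a) (fromBlocks 0 T₀ 0 0)
  rw [hX] at hcomm
  simp only [R, sc, fromBlocks_map, Matrix.map_zero _ (map_zero _), fromBlocks_multiply, Matrix.mul_zero,
    Matrix.zero_mul, add_zero, zero_add] at hcomm
  refine ⟨(ι × Fin N) × Fin N, inferInstance, inferInstance, copies (X := ι × Fin N) M, T, C,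
    isCorep_copies hM, ((fromBlocks_inj.1 hcomm).2.1).symm, ?_⟩
  have hmul : ∀ X : Matrix ι ((ι × Fin N) × Fin N) A, X.map l * C = (X * C.map (algebraMap k A)).map l := fun X => by
    refine Matrix.ext fun i j => ?_
    simp only [Matrix.mul_apply, Matrix.map_apply, map_sum]
    exact Finset.sum_congr rfl fun z _ => by rw [mul_comm (X i z), ← Algebra.smul_def, map_smul, smul_eq_mul, mul_comm]
  have hS := congrArg (fun X : Matrix ι ι A => X.map (HopfAlgebra.antipodeAlgHom k A)) h0
  simp only [Matrix.map_mul, Matrix.map_map] at hS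
  have hsc : ∀ {a b : Type u} (X : Matrix a b k), X.map ((HopfAlgebra.antipodeAlgHom k A) ∘ algebraMap k A) = X.map (algebraMap k A) :=
    fun X => Matrix.ext fun i j => (HopfAlgebra.antipodeAlgHom k A).commutes _
  rw [hsc, hsc] at hS
  rw [hmul, Matrix.mul_assoc, Matrix.mul_assoc, ← Matrix.mul_assoc (T₀.map _), hS, hP.mul_antipode]
  refine Matrix.ext fun i j => ?_
  by_cases h : i = j
  · subst h; simp [l, r.one]
  · simp [h]

end Groth.Agent.HMCrit
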