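import Groth.Agent.HMCrit.Slice
import Groth.Agent.HMCrit.Lift
import Groth.Agent.HMCrit.Embed
import Groth.Agent.GLRed.Stable
import Groth.Agent.S19603

/-!
# The numerical criterion for linearly reductive groups
-/

set_option autoImplicit false
set_option linter.unusedSectionVars false
set_option linter.style.haveILetI false

universe u v
open TensorProduct CoordGrp WithConv Groth.Agent.GLForms AddMonoidAlgebra
open scoped LaurentPolynomial
noncomputable section

namespace Groth.Agent.HMCrit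

attribute [-simp] LaurentPolynomial.single_eq_C_mul_T DualNumber.inr_eq_smul_eps

variable {k : Type u} [Field k]

/-- No coefficient below `d`. -/
def NoNeg (d : ℤ) (x : k[T;T⁻¹]) : Prop := ∀ i < d, x.coeff i = 0

lemma NoNeg.add {d : ℤ} {x y : k[T;T⁻¹]} (hx : NoNeg d x) (hy : NoNeg d y) : NoNeg d (x + y) := fun i hi => by
  rw [coeff_add, Finsupp.add_apply, hx i hi, hy i hi, add_zero]

lemma NoNeg.sum {d : ℤ} {J : Type*} (s : Finset J) {x : J → k[T;T⁻¹]} (hx : ∀ j ∈ s, NoNeg d (x j)) :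
    NoNeg d (∑ j ∈ s, x j) := fun i hi => by
  rw [coeff_sum, Finsupp.finsetSum_apply]
  exact Finset.sum_eq_zero fun j hj => hx j hj i hi

lemma NoNeg.mul {d e : ℤ} {x y : k[T;T⁻¹]} (hx : NoNeg d x) (hy : NoNeg e y) : NoNeg (d + e) (x * y) :=
  fun _ hi => coeff_mul_eq_zero x y d e hx hy hi

lemma noNeg_algebraMap (c : k) : NoNeg 0 (algebraMap k k[T;T⁻¹] c) := fun i hi => by
  rw [LaurentPolynomial.algebraMap_apply, Algebra.algebraMap_self, RingHom.id_apply]
  show (single (0 : ℤ) c).coeff i = 0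
  rw [coeff_single, Finsupp.single_eq_of_ne (by omega)]

lemma noNeg_toLaurent (p : Polynomial k) : NoNeg 0 (Polynomial.toLaurentAlg (R := k) p) :=
  fun _ hi => coeff_toLaurent_neg p hi

lemma noNeg_of_mem_adjoin {R : Type u} [CommRing R] [Algebra k R] (φ : R →ₐ[k] k[T;T⁻¹]) {s : Set R}
    (hs : ∀ a ∈ s, NoNeg 0 (φ a)) {a : R} (ha : a ∈ Algebra.adjoin k s) : NoNeg 0 (φ a) := by
  induction ha using Algebra.adjoin_induction with
  | mem a ha => exact hs a ha
  | algebraMap c => rw [AlgHom.commutes]; exact noNeg_algebraMap c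
  | add a b _ _ ha hb => rw [map_add]; exact ha.add hb
  | mul a b _ _ ha hb =>
    rw [map_mul]
    simpa using ha.mul hb

/-! ### The linear action as a matrix -/

variable {A : Type u} [CommRing A] [HopfAlgebra k A] {ι : Type u} [Fintype ι]

/-- The coordinates of a vector moved by a point of the group. -/
def mv [DecidableEq ι] (P : Matrix ι ι A) {L : Type u} [CommRing L] [Algebra k L] (φ : A →ₐ[k] L) (v : ι → k) :
    ι → L :=
  Matrix.vecMul (fun j => algebraMap k L (v j)) (P.map φ)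

variable [HopfRep.Comod k A (MvPolynomial ι k)] [GLin.IsCoactAlg k A (MvPolynomial ι k)]

lemma exists_linMatrix [DecidableEq ι] (hlin : GLin.IsLinear k A ι) :
    ∃ P : Matrix ι ι A, Comod.IsCorep (k := k) P ∧ ∀ {L : Type u} [CommRing L] [Algebra k L] (φ : A →ₐ[k] L)
      (v : ι → k) (i : ι), φ (GLin.orbitHom k A (GLin.vecPt k ι v) (MvPolynomial.X i)) = mv P φ v i := by
  classical
  choose m hm using hlin
  have hXi : ∀ (l : ι) {W : Type u} [AddCommGroup W] [Module k W] (f : ι → W),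
      (TensorProduct.lid k W) ((MvPolynomial.lcoeff k (Finsupp.single l 1)).rTensor W
        (∑ j, (MvPolynomial.X j : MvPolynomial ι k) ⊗ₜ[k] f j)) = f l := by
    intro l W _ _ f
    rw [map_sum, map_sum, Finset.sum_eq_single l]
    · simp [MvPolynomial.lcoeff_apply]
    · intro j _ hj
      simp [MvPolynomial.lcoeff_apply, MvPolynomial.coeff_X', Finsupp.single_left_inj, hj]
    · simp
  have hcm : ∀ i l, Coalgebra.comul (R := k) (m i l) = ∑ j, m j l ⊗ₜ[k] m i j := by
    intro i l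
    have h := LinearMap.congr_fun (HopfRep.Comod.coassoc (k := k) (A := A) (V := MvPolynomial ι k)) (MvPolynomial.X i)
    simp only [LinearMap.comp_apply, LinearEquiv.coe_coe, hm, map_sum, LinearMap.rTensor_tmul, LinearMap.lTensor_tmul,
      TensorProduct.sum_tmul, TensorProduct.assoc_tmul] at h
    rw [Finset.sum_comm] at h
    simp only [← TensorProduct.tmul_sum] at h
    simpa only [hXi l] using (congrArg (fun z => (TensorProduct.lid k (A ⊗[k] A))
      ((MvPolynomial.lcoeff k (Finsupp.single l 1)).rTensor (A ⊗[k] A) z)) h).symm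
  have hcu : ∀ i l, CoalgebraStruct.counit (R := k) (m i l) = if l = i then 1 else 0 := by
    intro i l
    have h := LinearMap.congr_fun (HopfRep.Comod.counit_comp (k := k) (A := A) (V := MvPolynomial ι k)) (MvPolynomial.X i)
    simp only [LinearMap.comp_apply, hm, map_sum, LinearMap.lTensor_tmul] at h
    have h2 := congrArg (fun z => (TensorProduct.lid k k)
      ((MvPolynomial.lcoeff k (Finsupp.single l 1)).rTensor k z)) h
    rw [hXi l] at h2
    simpa [MvPolynomial.lcoeff_apply, MvPolynomial.coeff_X', Finsupp.single_left_inj, eq_comm] using h2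
  refine ⟨Matrix.of fun a b => m b a, ⟨?_, ?_⟩, fun φ v i => ?_⟩
  · refine Matrix.ext fun a b => ?_
    simp [Matrix.mul_apply, hcm]
  · refine Matrix.ext fun a b => ?_
    simp [Matrix.one_apply, hcu]
  · rw [show GLin.orbitHom k A (GLin.vecPt k ι v) (MvPolynomial.X i) = ∑ l, v l • m i l by
      show (Algebra.TensorProduct.lid k A) (Algebra.TensorProduct.map (GLin.vecPt k ι v) (AlgHom.id k A)
        (HopfRep.Comod.coact (k := k) (A := A) (MvPolynomial.X i))) = _
      rw [hm, map_sum, map_sum]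
      simp, map_sum]
    simp [mv, Matrix.vecMul, dotProduct, Algebra.smul_def]

/-! ### One-parameter subgroups from valuations -/

section Core
variable [DecidableEq ι] {n : ℕ} (q : SLn (n + 1) k →ₐc[k] A) (hq : Function.Surjective q)
variable [IsAlgClosed k] [CharZero k] [Algebra.FiniteType k A] (hG : HopfRep.IsLinearlyReductive k A)
variable {P : Matrix ι ι A} (hP : Comod.IsCorep (k := k) P)
variable {K : Type u} [Field K] [Algebra k K] (V : ValuationSubring K)

include hq hG hP in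
theorem exists_lam_of_valuation (hV : ∀ c, algebraMap k K c ∈ V) (φ : A →ₐ[k] K) {i₁ j₁ : Fin (n + 1)}
    (hni : φ (qa q (SLn.X i₁ j₁)) ∉ V) (v b : ι → k)
    (hb : ∀ i, V.valuation (mv P φ v i - algebraMap k K (b i)) < 1) :
    ∃ lam : A →ₐc[k] k[T;T⁻¹], ¬ SGA3t2b.IsTrivialBialgHom lam ∧
      (∀ i, NoNeg 0 (mv P (lam : A →ₐ[k] k[T;T⁻¹]) v i)) ∧
        (b = 0 → ∀ i, NoNeg 1 (mv P (lam : A →ₐ[k] k[T;T⁻¹]) v i)) := by
  classical
  obtain ⟨J, _, _, Q, T, C, hQ, hPT, hTC⟩ := exists_lift q hG hq hP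
  obtain ⟨s, hs, hgen⟩ := exists_rInv_generators q hG
  let c : J → k := Matrix.vecMul v T
  let F : J → SLn (n + 1) k := Matrix.vecMul (fun l => algebraMap k _ (c l)) Q
  have hFval : ∀ {L : Type u} [CommRing L] [Algebra k L] (χ : SLn (n + 1) k →ₐ[k] L),
      (fun j => χ (F j)) = Matrix.vecMul (fun l => algebraMap k L (c l)) (Q.map χ) := fun χ => by
    funext j
    simp [F, Matrix.vecMul, dotProduct, map_sum]
  have hPTval : ∀ {L : Type u} [CommRing L] [Algebra k L] (φ : A →ₐ[k] L),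
      Matrix.vecMul (fun l => algebraMap k L (c l)) (Q.map (φ.comp (qa q))) =
        Matrix.vecMul (mv P φ v) (T.map (algebraMap k L)) := fun φ => by
    have h := congrArg (fun M : Matrix ι J A => M.map φ) hPT
    simp only [Matrix.map_mul, Matrix.map_map] at h
    rw [show ⇑φ ∘ ⇑(algebraMap k A) = algebraMap k _ from funext φ.commutes] at h
    rw [mv, Matrix.vecMul_vecMul, h, ← Matrix.vecMul_vecMul]
    congr 1
    funext l
    simp [c, Matrix.vecMul, dotProduct, map_sum]
  letI := GLForms.scalarAlg V hV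
  let Fs : Finset (SLn (n + 1) k) :=
    s.image (HopfAlgebra.antipodeAlgHom k (SLn (n + 1) k)) ∪ Finset.univ.image F
  obtain ⟨g, r, hr, hr0, hFs⟩ := exists_weights V hV (φ.comp (qa q)) hni Fs
  have hint1 : ∀ f ∈ s, Int' V hV (φ.comp (qa q)) (HopfAlgebra.antipodeAlgHom k _ f) := fun f hf ψ l => by
    rw [← AlgHom.comp_assoc, antipode_rInv_apply q (hs f hf), AlgHom.comp_apply, coeff_mapAlgHom]
    exact (V.valuation_le_one_iff _).2 (SetLike.coe_mem _)
  let y : J → K := Matrix.vecMul (mv P φ v) (T.map (algebraMap k K))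
  have hval : ∀ (ψ : SLn (n + 1) k →ₐ[k] AddMonoidAlgebra V (Fin n → ℤ)) (j : J) (l : Fin n → ℤ),
      (pmul (singleZeroAlgHom.comp (φ.comp (qa q))) ((mapAlgHom _ (⟨V.subtype, fun _ => rfl⟩ : V →ₐ[k] K)).comp ψ) (F j)).coeff l =
        ∑ i, y i * (((ψ (Q i j)).coeff l : V) : K) := fun ψ j l => by
    rw [show (pmul (singleZeroAlgHom.comp (φ.comp (qa q))) ((mapAlgHom _ (⟨V.subtype, fun _ => rfl⟩ : V →ₐ[k] K)).comp ψ)) (F j) =
      Matrix.vecMul (fun i => singleZeroAlgHom (R := k) (M := Fin n → ℤ) (y i))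
        (Q.map ((mapAlgHom _ (⟨V.subtype, fun _ => rfl⟩ : V →ₐ[k] K)).comp ψ)) j by
      refine (congrFun (hFval _) j).trans ?_
      rw [map_pmul hQ, ← Matrix.vecMul_vecMul]
      congr 2
      funext i
      have h1 := congrArg (singleZeroAlgHom (R := k) (M := Fin n → ℤ)) (congrFun (hPTval φ) i)
      refine Eq.trans ?_ h1
      simp only [Matrix.vecMul, dotProduct, Matrix.map_apply, map_sum, map_mul, AlgHom.comp_apply, AlgHom.commutes]]
    simp only [Matrix.vecMul, dotProduct, Matrix.map_apply, AlgHom.comp_apply, coeff_sum, Finsupp.finsetSum_apply]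
    refine Finset.sum_congr rfl fun i _ => ?_
    show (single (0 : Fin n → ℤ) (y i) * _).coeff l = _
    rw [coeff_single_zero_mul, coeff_mapAlgHom]
    rfl
  have hmem : ∀ i, mv P φ v i ∈ V := fun i => by
    have := V.add_mem _ _ ((V.valuation_le_one_iff _).1 (hb i).le) (hV (b i))
    rwa [sub_add_cancel] at this
  have hy : ∀ j, y j ∈ V := fun j => sum_mem fun i _ => mul_mem (hmem i) (hV _)
  have hint2 : ∀ j, Int' V hV (φ.comp (qa q)) (F j) := fun j ψ l => by
    rw [hval ψ j l, V.valuation_le_one_iff]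
    exact sum_mem fun i _ => mul_mem (hy i) (SetLike.coe_mem _)
  have hnull : b = 0 → ∀ j, Null' V hV (φ.comp (qa q)) (F j) := fun hb0 j ψ l => by
    rw [hval ψ j l]
    refine V.valuation.map_sum_lt one_ne_zero fun i _ => ?_
    rw [map_mul]
    refine mul_lt_one_of_nonneg_of_lt_one_left zero_le' ?_ ((V.valuation_le_one_iff _).2 (SetLike.coe_mem _))
    refine V.valuation.map_sum_lt one_ne_zero fun l _ => ?_
    rw [map_mul]
    refine mul_lt_one_of_nonneg_of_lt_one_left zero_le' ?_ ((V.valuation_le_one_iff _).2 (hV _))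
    simpa [hb0] using hb l
  have hrInv : ∀ f ∈ rInv q, ∀ m < 0, (torOrbit g r hr (HopfAlgebra.antipodeAlgHom k _ f)).coeff m = 0 := fun f hf => by
    refine noNeg_of_mem_adjoin ((torOrbit g r hr).comp (HopfAlgebra.antipodeAlgHom k _)) (fun a ha => ?_) (hgen f hf)
    exact (hFs _ (Finset.mem_union_left _ (Finset.mem_image_of_mem _ ha))).1 (hint1 a ha)
  obtain ⟨lam, ψ, hdec, hnt⟩ := exists_decomposition r hr q hG hq g hrInv
  let L := k[T;T⁻¹]
  let a : ι → L := mv P (lam : A →ₐ[k] L) v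
  let Qψ := Q.map ((Polynomial.toLaurentAlg (R := k)).comp ψ)
  let Qψ' := (Q.map (HopfAlgebra.antipodeAlgHom k _)).map ((Polynomial.toLaurentAlg (R := k)).comp ψ)
  have hQQ : Qψ * Qψ' = 1 := by
    rw [← Matrix.map_mul, hQ.mul_antipode, Matrix.map_one _ (map_zero _) (map_one _)]
  have hF' : (fun j => torOrbit g r hr (F j)) = Matrix.vecMul (Matrix.vecMul a (T.map (algebraMap k L))) Qψ := by
    rw [hFval, hdec, map_pmul hQ, ← Matrix.vecMul_vecMul, hPTval]
  have ha : a = Matrix.vecMul (Matrix.vecMul (fun j => torOrbit g r hr (F j)) Qψ') (C.map (algebraMap k L)) := by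
    rw [hF', Matrix.vecMul_vecMul _ Qψ Qψ', hQQ, Matrix.vecMul_one, Matrix.vecMul_vecMul, ← Matrix.map_mul,
      hTC, Matrix.map_one _ (map_zero _) (map_one _), Matrix.vecMul_one]
  have hfin : ∀ d : ℤ, (∀ j, NoNeg d (torOrbit g r hr (F j))) → ∀ i, NoNeg d (a i) := fun d hd i => by
    rw [congrFun ha i]
    refine NoNeg.sum _ fun j _ => ?_
    have h1 : NoNeg d (Matrix.vecMul (fun j => torOrbit g r hr (F j)) Qψ' j) := NoNeg.sum _ fun l _ => by
      have h := (hd l).mul (noNeg_toLaurent (ψ (HopfAlgebra.antipodeAlgHom k _ (Q l j))))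
      rw [add_zero] at h
      exact h
    have h := h1.mul (noNeg_algebraMap (C j i))
    rw [add_zero] at h
    exact h
  refine ⟨lam, hnt hr0, hfin 0 fun j => ?_, fun hb0 => hfin 1 fun j m hm => ?_⟩
  · exact (hFs _ (Finset.mem_union_right _ (Finset.mem_image_of_mem _ (Finset.mem_univ j)))).1 (hint2 j)
  · exact (hFs _ (Finset.mem_union_right _ (Finset.mem_image_of_mem _ (Finset.mem_univ j)))).2 (hnull hb0 j) m (by omega)

include hq in
/-- An integral point has a rational specialisation. -/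
theorem exists_point_of_integral (hV : ∀ c, algebraMap k K c ∈ V) (φ : A →ₐ[k] K)
    (hint : ∀ i j, φ (qa q (SLn.X i j)) ∈ V) (v b : ι → k)
    (hb : ∀ i, V.valuation (mv P φ v i - algebraMap k K (b i)) < 1) :
    ∃ g : A →ₐ[k] k, mv P g v = b := by
  letI : Algebra k V := GLForms.scalarAlg V hV
  let res := IsLocalRing.residue V
  letI : Algebra k (IsLocalRing.ResidueField V) := (res.comp (algebraMap k V)).toAlgebra
  let ι' : V →ₐ[k] K := ⟨V.subtype, fun c => rfl⟩
  let M : Matrix (Fin (n + 1)) (Fin (n + 1)) V := fun i j => ⟨_, hint i j⟩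
  have hMd : M.det = 1 := by
    refine Subtype.ext ?_
    show V.subtype M.det = 1
    rw [V.subtype.map_det]
    exact det_mat (φ.comp (qa q))
  have hφ : ι'.comp (SLn.pt (n + 1) k M hMd) = φ.comp (qa q) :=
    point_ext (Matrix.ext fun i j => congrArg ι' (SLn.pt_X M hMd i j))
  let φV : A →ₐ[k] V := AlgHom.liftOfSurjective (qa q) hq (SLn.pt (n + 1) k M hMd) fun a ha => Subtype.ext (by
    show ι' (SLn.pt (n + 1) k M hMd a) = 0
    rw [← AlgHom.comp_apply, hφ, AlgHom.comp_apply, show qa q a = 0 from RingHom.mem_ker.1 ha]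
    exact map_zero φ)
  have hφV : ι'.comp φV = φ := AlgHom.ext fun x => by
    obtain ⟨a, rfl⟩ := hq x
    show ι' (φV (qa q a)) = φ (qa q a)
    rw [show φV (qa q a) = _ from AlgHom.liftOfSurjective_apply (qa q) hq _ _ a, ← AlgHom.comp_apply, hφ]
    rfl
  let R₀ : V →ₐ[k] IsLocalRing.ResidueField V := ⟨res, fun c => rfl⟩
  let e : ι → A := fun i => ∑ j, algebraMap k A (v j) * P j i - algebraMap k A (b i)
  have he : ∀ i, R₀ (φV (e i)) = 0 := fun i => by
    refine (IsLocalRing.residue_eq_zero_iff _).2 ((V.valuation_lt_one_iff _).2 ?_)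
    show V.valuation (ι' (φV (e i))) < 1
    rw [← AlgHom.comp_apply, hφV]
    convert! hb i using 2
    simp [e, mv, Matrix.vecMul, dotProduct, map_sum]
  have hne : Ideal.span (Set.range e) ≠ ⊤ := fun htop => by
    have hle : Ideal.span (Set.range e) ≤ RingHom.ker (R₀.comp φV) :=
      Ideal.span_le.2 (Set.range_subset_iff.2 fun i => RingHom.mem_ker.2 (he i))
    rw [htop, top_le_iff] at hle
    exact RingHom.ker_ne_top _ hle
  obtain ⟨I, hI, hle⟩ := Ideal.exists_le_maximal _ hne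
  obtain ⟨g, hg⟩ := GLinFree.exists_point_of_maximal (k := k) I
  refine ⟨g, funext fun i => ?_⟩
  have := RingHom.mem_ker.1 (hg ▸ hle (Ideal.subset_span ⟨i, rfl⟩) : e i ∈ RingHom.ker g)
  rw [map_sub, AlgHom.commutes, sub_eq_zero] at this
  rw [← show g (∑ j, algebraMap k A (v j) * P j i) = mv P g v i by simp [mv, Matrix.vecMul, dotProduct, map_sum]]
  exact this

end Core

/-! ### Rescaling the parameter -/

/-- The substitution `T ↦ sT`. -/
def scaleT (s : kˣ) : k[T;T⁻¹] →ₐ[k] k[T;T⁻¹] :=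
  pmul (AlgHom.id k _) ((Algebra.ofId k _).comp (evalT s))

lemma scaleT_single (s : kˣ) (l : ℤ) (c : k) : scaleT s (single l c) = single l (c * (s : k) ^ l) := by
  have h : scaleT s (LaurentPolynomial.T l) = single l ((s : k) ^ l) := by
    rw [scaleT, pmul, AlgHom.convMul_apply, LaurentPolynomial.comul_T]
    show LaurentPolynomial.T l * algebraMap k k[T;T⁻¹] (evalT s (single l 1)) = _
    rw [evalT_single, one_mul, mul_comm, LaurentPolynomial.algebraMap_apply, Algebra.algebraMap_self, RingHom.id_apply]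
    exact (LaurentPolynomial.single_eq_C_mul_T _ _).symm
  rw [show (single l c : k[T;T⁻¹]) = c • LaurentPolynomial.T l by rw [LaurentPolynomial.T, AddMonoidAlgebra.smul_single', mul_one],
    map_smul, h, AddMonoidAlgebra.smul_single']

lemma coeff_scaleT_zero (s : kˣ) (x : k[T;T⁻¹]) : (scaleT s x).coeff 0 = x.coeff 0 := by
  induction x using AddMonoidAlgebra.induction_linear with
  | zero => simp
  | add x y hx hy => rw [map_add, coeff_add, coeff_add, Finsupp.add_apply, Finsupp.add_apply, hx, hy]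
  | single l c =>
    rw [scaleT_single, coeff_single, coeff_single]
    by_cases hl : l = 0
    · subst hl; simp
    · simp [hl]

lemma scaleT_comp (lam : A →ₐc[k] k[T;T⁻¹]) (s : kˣ) : (scaleT s).comp (lam : A →ₐ[k] k[T;T⁻¹]) =
    pmul (lam : A →ₐ[k] k[T;T⁻¹]) ((Algebra.ofId k _).comp ((evalT s).comp (lam : A →ₐ[k] k[T;T⁻¹]))) :=
  AlgHom.ext fun a => DFunLike.congr_fun (AlgHom.convMul_comp_bialgHom_distrib (toConv (AlgHom.id k k[T;T⁻¹]))
    (toConv ((Algebra.ofId k _).comp (evalT s))) lam) a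

/-! ### The criterion -/

variable [IsAlgClosed k] [CharZero k] [Algebra.FiniteType k A] [DecidableEq ι] {P : Matrix ι ι A}

section
variable (hP : Comod.IsCorep (k := k) P)
  (hmv : ∀ {L : Type u} [CommRing L] [Algebra k L] (φ : A →ₐ[k] L) (v : ι → k) (i : ι),
    φ (GLin.orbitHom k A (GLin.vecPt k ι v) (MvPolynomial.X i)) = mv P φ v i)

include hP hmv in
/-- A boundary point of an orbit gives a one-parameter subgroup. -/
theorem exists_lam_of_boundary (hG : HopfRep.IsLinearlyReductive k A) {v b : ι → k}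
    (h : GLin.InOrbitClosure k A (GLin.vecPt k ι v) (GLin.vecPt k ι b)) (hne : ∀ g : A →ₐ[k] k, mv P g v ≠ b) :
    ∃ lam : A →ₐc[k] k[T;T⁻¹], ¬ SGA3t2b.IsTrivialBialgHom lam ∧
      (∀ i, NoNeg 0 (mv P (lam : A →ₐ[k] k[T;T⁻¹]) v i)) ∧
        (b = 0 → ∀ i, NoNeg 1 (mv P (lam : A →ₐ[k] k[T;T⁻¹]) v i)) := by
  classical
  obtain ⟨N, q, hq⟩ := exists_surj_SLn (k := k) A
  let x := GLin.vecPt k ι b
  haveI : (RingHom.ker x).IsPrime := RingHom.ker_isPrime _
  obtain ⟨Pm, hPm, hPle⟩ := Ideal.exists_minimalPrimes_le (J := RingHom.ker x) h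
  have hPp : Pm.IsPrime := hPm.1.1
  obtain ⟨p, hp, -, hpP⟩ := Ideal.exists_comap_eq_of_mem_minimalPrimes
    (GLin.orbitHom k A (GLin.vecPt k ι v)).toRingHom (I := ⊥) Pm (by rwa [← RingHom.ker_eq_comap_bot])
  let K := FractionRing (A ⧸ p)
  let φ : A →ₐ[k] K := (IsScalarTower.toAlgHom k (A ⧸ p) K).comp (Ideal.Quotient.mkₐ k p)
  have hker : RingHom.ker φ = p := by
    ext z
    show algebraMap (A ⧸ p) K (Ideal.Quotient.mk p z) = 0 ↔ _
    rw [map_eq_zero_iff _ (IsFractionRing.injective _ K), Ideal.Quotient.eq_zero_iff_mem]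
  let ψ : MvPolynomial ι k →+* K := (φ.comp (GLin.orbitHom k A (GLin.vecPt k ι v))).toRingHom
  have hψ : RingHom.ker ψ ≤ RingHom.ker x := fun f hf => hPle (by
    rw [← hpP]
    exact (hker ▸ hf : GLin.orbitHom k A (GLin.vecPt k ι v) f ∈ p))
  let J : Ideal ψ.range := (RingHom.ker x).map ψ.rangeRestrict
  have hJ : J ≠ ⊤ := fun e => by
    have := congrArg (Ideal.comap ψ.rangeRestrict) e
    rw [Ideal.comap_map_of_surjective _ ψ.rangeRestrict_surjective, Ideal.comap_top, sup_eq_left.2 (by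
      intro f hf
      exact hψ (congrArg Subtype.val (hf : ψ.rangeRestrict f = 0)))] at this
    exact RingHom.ker_ne_top _ this
  obtain ⟨V, hVle, hVJ⟩ := Ideal.image_subset_nonunits_valuationSubring J hJ
  have hV : ∀ c, algebraMap k K c ∈ V := fun c => hVle ⟨MvPolynomial.C c, by
    show φ (GLin.orbitHom k _ _ (algebraMap k (MvPolynomial ι k) c)) = _
    rw [AlgHom.commutes, AlgHom.commutes]⟩
  have hb : ∀ i, V.valuation (mv P φ v i - algebraMap k K (b i)) < 1 := fun i => by
    let f : MvPolynomial ι k := MvPolynomial.X i - algebraMap k _ (b i)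
    have hf : f ∈ RingHom.ker x := by simp [f, x, RingHom.mem_ker]
    have := hVJ ⟨_, Ideal.mem_map_of_mem _ hf, rfl⟩
    rw [SetLike.mem_coe, V.mem_nonunits_iff] at this
    convert! this using 2
    show _ = φ (GLin.orbitHom k _ _ f)
    rw [map_sub, map_sub, AlgHom.commutes, AlgHom.commutes, hmv]
  by_cases hint : ∀ i j, φ (qa q (SLn.X i j)) ∈ V
  · obtain ⟨g, hg⟩ := exists_point_of_integral q hq V hV φ hint v b hb
    exact absurd hg (hne g)
  · push Not at hint
    obtain ⟨i, j, hij⟩ := hint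
    exact exists_lam_of_valuation q hq hG hP V hV φ hij v b hb

include hP hmv in
/-- An infinite stabiliser gives a one-parameter subgroup. -/
theorem exists_lam_of_infinite_stab (hG : HopfRep.IsLinearlyReductive k A) {v : ι → k}
    (h : (GLRed.stabSet k A (GLin.vecPt k ι v)).Infinite) :
    ∃ lam : A →ₐc[k] k[T;T⁻¹], ¬ SGA3t2b.IsTrivialBialgHom lam ∧
      ∀ i, NoNeg 0 (mv P (lam : A →ₐ[k] k[T;T⁻¹]) v i) := by
  classical
  obtain ⟨N, q, hq⟩ := exists_surj_SLn (k := k) A
  haveI : IsNoetherianRing A := Algebra.FiniteType.isNoetherianRing k _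
  set I := GLin.stabIdeal k A (GLin.vecPt k ι v)
  obtain ⟨p, hp, hpinf⟩ : ∃ p ∈ I.minimalPrimes, {g : A →ₐ[k] k | p ≤ RingHom.ker g}.Infinite := by
    by_contra hfin
    push Not at hfin
    refine h (((Ideal.finite_minimalPrimes_of_isNoetherianRing _ I).biUnion fun p hp => hfin p hp).subset ?_)
    intro g hg
    haveI : (RingHom.ker g).IsPrime := RingHom.ker_isPrime _
    obtain ⟨p, hp, hpg⟩ := Ideal.exists_minimalPrimes_le (J := RingHom.ker g) (GLRed.stabIdeal_le_ker_iff.2 hg)
    exact Set.mem_biUnion hp hpg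
  haveI := hp.1.1
  let K := FractionRing (A ⧸ p)
  let φ : A →ₐ[k] K := (IsScalarTower.toAlgHom k (A ⧸ p) K).comp (Ideal.Quotient.mkₐ k p)
  have hker : RingHom.ker φ = p := by
    ext z
    show algebraMap (A ⧸ p) K (Ideal.Quotient.mk p z) = 0 ↔ _
    rw [map_eq_zero_iff _ (IsFractionRing.injective _ K), Ideal.Quotient.eq_zero_iff_mem]
  obtain ⟨i, j, hij⟩ : ∃ i j, φ (qa q (SLn.X i j)) ∉ (algebraMap k K).range := by
    by_contra hall
    push Not at hall
    choose c hc using hall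
    refine hpinf (Set.Subsingleton.finite fun g hg g' hg' => AlgHom.ext fun z => ?_)
    obtain ⟨a, rfl⟩ := hq z
    refine DFunLike.congr_fun (point_ext (φ := g.comp (qa q)) (φ' := g'.comp (qa q)) (Matrix.ext fun i j => ?_)) a
    have hm : qa q (SLn.X i j) - algebraMap k _ (c i j) ∈ p := by
      rw [← hker, RingHom.mem_ker, map_sub, AlgHom.commutes, hc]
      exact sub_self _
    have e1 := RingHom.mem_ker.1 (hg hm)
    have e2 := RingHom.mem_ker.1 (hg' hm)
    rw [map_sub, AlgHom.commutes, sub_eq_zero] at e1 e2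
    exact e1.trans e2.symm
  haveI : IsIntegrallyClosedIn (algebraMap k K).range K := by
    refine Subring.isIntegrallyClosedIn_iff.mpr fun {z} hz => ?_
    have hint : IsIntegral k z := by
      obtain ⟨p, hp, hpx⟩ := hz
      obtain ⟨p', hp', -, hp'm⟩ := Polynomial.lifts_and_degree_eq_and_monic
        (f := (algebraMap k K).rangeRestrict) (p := p)
        (Polynomial.mem_lifts p |>.2 (Polynomial.map_surjective _ (algebraMap k K).rangeRestrict_surjective p)) hp
      refine ⟨p', hp'm, ?_⟩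
      rw [← hp', Polynomial.eval₂_map] at hpx
      exact hpx
    exact RingHom.mem_range.2 (minpoly.mem_range_of_degree_eq_one k z
      (IsAlgClosed.degree_eq_one_of_irreducible _ (minpoly.irreducible hint)))
  obtain ⟨V, hVle, hxV⟩ := Subring.exists_le_valuationSubring_of_isIntegrallyClosedIn hij
  have hV : ∀ c, algebraMap k K c ∈ V := fun c => hVle ⟨c, rfl⟩
  obtain ⟨lam, h1, h2, -⟩ := exists_lam_of_valuation q hq hG hP V hV φ hxV v v fun i => by
    have hm : GLin.orbitHom k A (GLin.vecPt k ι v) (MvPolynomial.X i) - algebraMap k _ (v i) ∈ p := hp.1.2 (by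
      refine Ideal.subset_span ⟨MvPolynomial.X i - algebraMap k _ (v i), ?_, ?_⟩
      · simp
      · rw [map_sub, AlgHom.commutes])
    rw [← hker, RingHom.mem_ker, map_sub, AlgHom.commutes, hmv] at hm
    rw [hm, map_zero]
    exact zero_lt_one
  exact ⟨lam, h1, h2⟩

include hP in
lemma mv_mul_inv {L : Type u} [CommRing L] [Algebra k L] (φ : A →ₐ[k] L) (v : ι → k) :
    Matrix.vecMul (mv P φ v) ((P.map (HopfAlgebra.antipodeAlgHom k A)).map φ) = fun j => algebraMap k L (v j) := by
  rw [mv, Matrix.vecMul_vecMul, ← Matrix.map_mul, hP.mul_antipode, Matrix.map_one _ (map_zero _) (map_one _),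
    Matrix.vecMul_one]

lemma shiftedOrbit_X (lam : A →ₐc[k] k[T;T⁻¹]) (v : ι → k) (m : ℤ)
    (hmv : ∀ {L : Type u} [CommRing L] [Algebra k L] (φ : A →ₐ[k] L) (v : ι → k) (i : ι),
      φ (GLin.orbitHom k A (GLin.vecPt k ι v) (MvPolynomial.X i)) = mv P φ v i) (i : ι) :
    GLin.shiftedOrbit k A lam v m (MvPolynomial.X i) = LaurentPolynomial.T m * mv P (lam : A →ₐ[k] k[T;T⁻¹]) v i := by
  rw [GLin.shiftedOrbit, MvPolynomial.aeval_X]
  exact congrArg _ (hmv (lam : A →ₐ[k] k[T;T⁻¹]) v i)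

include hP hmv in
/-- The numerical function exists, and is at most `-d` when nothing is below `d`. -/
lemma exists_isMu (lam : A →ₐc[k] k[T;T⁻¹]) {v : ι → k} (hv : v ≠ 0) {d : ℤ}
    (h : ∀ i, NoNeg d (mv P (lam : A →ₐ[k] k[T;T⁻¹]) v i)) : ∃ m, m ≤ -d ∧ GLin.IsMu k A lam v m := by
  classical
  let a := mv P (lam : A →ₐ[k] k[T;T⁻¹]) v
  let S := Finset.univ.biUnion fun i => (a i).coeff.support
  have hS : S.Nonempty := by
    by_contra hS
    have ha : a = 0 := funext fun i => AddMonoidAlgebra.ext (Finsupp.ext fun l => by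
      by_contra hl
      exact hS ⟨l, Finset.mem_biUnion.2 ⟨i, Finset.mem_univ _, Finsupp.mem_support_iff.2 hl⟩⟩)
    refine hv (funext fun j => (algebraMap k k[T;T⁻¹]).injective ?_)
    rw [← congrFun (mv_mul_inv hP (lam : A →ₐ[k] k[T;T⁻¹]) v) j, show mv P (lam : A →ₐ[k] k[T;T⁻¹]) v = 0 from ha]
    simp
  obtain ⟨i₀, -, hi₀⟩ := Finset.mem_biUnion.1 (S.min'_mem hS)
  set l := S.min' hS
  have hcoeff : ∀ i j, (LaurentPolynomial.T (-l) * a i).coeff j = (a i).coeff (j + l) := fun i j => by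
    rw [LaurentPolynomial.T]
    exact (coeff_single_mul_eq_mul_coeff (j + l) fun b _ => by omega).trans (one_mul _)
  have hr : ∀ i, ∃ p : Polynomial k, Polynomial.toLaurentAlg (R := k) p = LaurentPolynomial.T (-l) * a i := fun i =>
    mem_range_toLaurent fun j hj => by
      rw [hcoeff]
      by_contra hne
      have := S.min'_le _ (Finset.mem_biUnion.2 ⟨i, Finset.mem_univ _, Finsupp.mem_support_iff.2 hne⟩)
      omega
  choose p hp using hr
  have hp0 : (p i₀).coeff 0 ≠ 0 := by
    rw [← coeff_toLaurent_zero, show Polynomial.toLaurent (p i₀) = _ from hp i₀, hcoeff, zero_add]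
    exact Finsupp.mem_support_iff.1 hi₀
  refine ⟨-l, ?_, MvPolynomial.aeval p, ?_, fun hc => ?_⟩
  · by_contra hlt
    exact Finsupp.mem_support_iff.1 hi₀ (h i₀ l (by omega))
  · refine MvPolynomial.algHom_ext fun i => ?_
    rw [AlgHom.comp_apply, MvPolynomial.aeval_X, hp, shiftedOrbit_X lam v _ hmv]
  · have := DFunLike.congr_fun hc (MvPolynomial.X i₀)
    rw [AlgHom.comp_apply, MvPolynomial.aeval_X, MvPolynomial.aeval_X, ← Polynomial.coeff_zero_eq_aeval_zero] at this
    exact hp0 this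

include hmv in
lemma noNeg_of_isMu {lam : A →ₐc[k] k[T;T⁻¹]} {v : ι → k} {m : ℤ} (hm : GLin.IsMu k A lam v m) (i : ι) :
    NoNeg (-m) (mv P (lam : A →ₐ[k] k[T;T⁻¹]) v i) := by
  obtain ⟨h, hh, -⟩ := hm
  have e := DFunLike.congr_fun hh (MvPolynomial.X i)
  rw [AlgHom.comp_apply, shiftedOrbit_X lam v m hmv] at e
  intro j hj
  have h1 : (LaurentPolynomial.T m * mv P (lam : A →ₐ[k] k[T;T⁻¹]) v i).coeff (j + m) = 0 := by
    rw [← e]
    exact coeff_toLaurent_neg _ (by omega)
  rw [LaurentPolynomial.T] at h1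
  exact ((coeff_single_mul_eq_mul_coeff j fun b _ => by omega).trans (one_mul _)).symm.trans h1

include hmv in
/-- The limit lies in the orbit closure. -/
lemma inOrbitClosure_limit (lam : A →ₐc[k] k[T;T⁻¹]) (v : ι → k)
    (h : ∀ i, NoNeg 0 (mv P (lam : A →ₐ[k] k[T;T⁻¹]) v i)) :
    GLin.InOrbitClosure k A (GLin.vecPt k ι v)
      (GLin.vecPt k ι fun i => (mv P (lam : A →ₐ[k] k[T;T⁻¹]) v i).coeff 0) := by
  choose p hp using fun i => mem_range_toLaurent (h i)
  have hcomp : (Polynomial.toLaurentAlg (R := k)).comp (MvPolynomial.aeval p) =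
      (lam : A →ₐ[k] k[T;T⁻¹]).comp (GLin.orbitHom k A (GLin.vecPt k ι v)) := by
    refine MvPolynomial.algHom_ext fun i => ?_
    rw [AlgHom.comp_apply, MvPolynomial.aeval_X]
    exact (hp i).trans (hmv (lam : A →ₐ[k] k[T;T⁻¹]) v i).symm
  intro f hf
  have h0 : MvPolynomial.aeval p f = 0 := Polynomial.toLaurent_injective (by
    rw [map_zero]
    exact (DFunLike.congr_fun hcomp f).trans (by rw [AlgHom.comp_apply, RingHom.mem_ker.1 hf, map_zero]))
  have e : (Polynomial.aeval (0 : k)).comp (MvPolynomial.aeval p) =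
      GLin.vecPt k ι fun i => (mv P (lam : A →ₐ[k] k[T;T⁻¹]) v i).coeff 0 := by
    refine MvPolynomial.algHom_ext fun i => ?_
    rw [AlgHom.comp_apply, MvPolynomial.aeval_X, MvPolynomial.aeval_X, ← Polynomial.coeff_zero_eq_aeval_zero,
      ← coeff_toLaurent_zero]
    exact congrArg (fun z : k[T;T⁻¹] => z.coeff 0) (hp i)
  rw [RingHom.mem_ker, ← e, AlgHom.comp_apply, h0, map_zero]

include hP hmv in
/-- A limit along a non-trivial subgroup makes the vector not stable. -/
lemma not_isStableVec_of_limit (lam : A →ₐc[k] k[T;T⁻¹]) (hnt : ¬ SGA3t2b.IsTrivialBialgHom lam) (v : ι → k)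
    (h : ∀ i, NoNeg 0 (mv P (lam : A →ₐ[k] k[T;T⁻¹]) v i)) : ¬ GLin.IsStableVec k A v := by
  classical
  intro hst
  obtain ⟨hclosed, hfin⟩ := (GLRed.isStablePt_iff_points _).1 hst
  let w : ι → k := fun i => (mv P (lam : A →ₐ[k] k[T;T⁻¹]) v i).coeff 0
  obtain ⟨g, hg⟩ := hclosed _ (inOrbitClosure_limit hmv lam v h)
  have hfw : (GLRed.stabSet k A (GLin.vecPt k ι w)).Finite := hg ▸ GLRed.finite_stabSet_actPt hfin g
  let pt : kˣ → (A →ₐ[k] k) := fun s => (evalT s).comp (lam : A →ₐ[k] k[T;T⁻¹])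
  have hfix : ∀ s, pt s ∈ GLRed.stabSet k A (GLin.vecPt k ι w) := fun s => by
    have hσlam : (scaleT s).comp (lam : A →ₐ[k] k[T;T⁻¹]) =
        pmul (lam : A →ₐ[k] k[T;T⁻¹]) ((Algebra.ofId k _).comp (pt s)) := scaleT_comp lam s
    refine MvPolynomial.algHom_ext fun i => ?_
    rw [GLin.actPt, AlgHom.comp_apply, hmv, GLin.vecPt, MvPolynomial.aeval_X]
    have e1 : (fun j => scaleT s (mv P (lam : A →ₐ[k] k[T;T⁻¹]) v j)) =
        Matrix.vecMul (mv P (lam : A →ₐ[k] k[T;T⁻¹]) v) ((P.map (pt s)).map (algebraMap k k[T;T⁻¹])) := by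
      rw [show (fun j => scaleT s (mv P (lam : A →ₐ[k] k[T;T⁻¹]) v j)) = mv P ((scaleT s).comp (lam : A →ₐ[k] k[T;T⁻¹])) v from
        funext fun j => by simp [mv, Matrix.vecMul, dotProduct, map_sum, scaleT_single], hσlam, mv, map_pmul hP, ← Matrix.vecMul_vecMul]
      rfl
    have e2 := congrArg (fun z : k[T;T⁻¹] => z.coeff 0) (congrFun e1 i)
    simp only [coeff_scaleT_zero] at e2
    refine Eq.trans ?_ e2.symm
    simp only [mv, Matrix.vecMul, dotProduct, coeff_sum, Finsupp.finsetSum_apply, Matrix.map_apply,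
      Algebra.algebraMap_self, RingHom.id_apply]
    refine Finset.sum_congr rfl fun j _ => ?_
    rw [mul_comm _ (algebraMap k k[T;T⁻¹] _), LaurentPolynomial.algebraMap_apply, Algebra.algebraMap_self, RingHom.id_apply,
      mul_comm]
    exact (coeff_single_zero_mul _ _ _).symm
  obtain ⟨a, ha⟩ : ∃ a, ∀ c : k, lam a ≠ algebraMap k _ c := by
    by_contra hall
    push Not at hall
    refine hnt fun a => ?_
    obtain ⟨c, hc⟩ := hall a
    have h1 := CoalgHomClass.counit_comp_apply lam a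
    rw [hc, Bialgebra.counit_algebraMap] at h1
    rw [hc, h1]
  refine (Set.Infinite.of_image (fun g : A →ₐ[k] k => g a) ?_) (hfw.subset (Set.range_subset_iff.2 hfix))
  intro hfin'
  have hz : ∏ c ∈ hfin'.toFinset, (lam a - algebraMap k k[T;T⁻¹] c) = 0 := by
    refine eq_zero_of_forall_evalT fun s => ?_
    rw [map_prod]
    refine Finset.prod_eq_zero (i := pt s a) (hfin'.mem_toFinset.2 ⟨pt s, ⟨s, rfl⟩, rfl⟩) ?_
    rw [map_sub, AlgHom.commutes]
    exact sub_self _
  obtain ⟨c, -, hc⟩ := Finset.prod_eq_zero_iff.1 hz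
  exact ha c (sub_eq_zero.1 hc)

end

/-- **The numerical criterion of semistability.** -/
theorem isSemistableVec_iff (hG : HopfRep.IsLinearlyReductive k A) (hlin : GLin.IsLinear k A ι) {v : ι → k}
    (hv : v ≠ 0) :
    GLin.IsSemistableVec k A v ↔ ∀ (lam : A →ₐc[k] k[T;T⁻¹]) (m : ℤ), GLin.IsMu k A lam v m → 0 ≤ m := by
  obtain ⟨P, hP, hmv⟩ := exists_linMatrix hlin
  rw [S19603.result k A hG ι hlin v]
  constructor
  · intro hcl lam m hm
    by_contra hlt
    refine hcl ?_
    have h1 : ∀ i, NoNeg 1 (mv P (lam : A →ₐ[k] k[T;T⁻¹]) v i) := fun i j hj =>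
      noNeg_of_isMu hmv hm i j (by omega)
    have h := inOrbitClosure_limit hmv lam v fun i j hj => h1 i j (by omega)
    rwa [show (fun i => (mv P (lam : A →ₐ[k] k[T;T⁻¹]) v i).coeff 0) = fun _ => (0 : k) from
      funext fun i => h1 i 0 (by omega)] at h
  · intro h hcl
    obtain ⟨lam, -, -, h1⟩ := exists_lam_of_boundary hP hmv hG hcl fun g hg => hv (funext fun j => by
      have := congrFun (mv_mul_inv hP g v) j
      rw [hg] at this
      simpa [Matrix.vecMul, dotProduct] using this.symm)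
    obtain ⟨m, hm, hmu⟩ := exists_isMu hP hmv lam hv (h1 rfl)
    have := h lam m hmu
    omega

/-- **The numerical criterion of stability.** -/
theorem isStableVec_iff (hG : HopfRep.IsLinearlyReductive k A) (hlin : GLin.IsLinear k A ι) {v : ι → k}
    (hv : v ≠ 0) :
    GLin.IsStableVec k A v ↔
      ∀ lam : A →ₐc[k] k[T;T⁻¹], ¬ SGA3t2b.IsTrivialBialgHom lam → ∀ m : ℤ, GLin.IsMu k A lam v m → 0 < m := by
  obtain ⟨P, hP, hmv⟩ := exists_linMatrix hlin
  constructor
  · intro hst lam hnt m hm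
    by_contra hle
    exact not_isStableVec_of_limit hP hmv lam hnt v (fun i j hj => noNeg_of_isMu hmv hm i j (by omega)) hst
  · intro h
    have bad : ∀ lam : A →ₐc[k] k[T;T⁻¹], ¬ SGA3t2b.IsTrivialBialgHom lam →
        ¬ ∀ i, NoNeg 0 (mv P (lam : A →ₐ[k] k[T;T⁻¹]) v i) := fun lam hnt h0 => by
      obtain ⟨m, hm, hmu⟩ := exists_isMu hP hmv lam hv h0
      have := h lam hnt m hmu
      omega
    refine (GLRed.isStablePt_iff_points _).2 ⟨fun z hz => ?_, ?_⟩
    · by_contra hno
      push Not at hno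
      obtain ⟨b, rfl⟩ : ∃ b, z = GLin.vecPt k ι b :=
        ⟨fun i => z (MvPolynomial.X i), MvPolynomial.algHom_ext fun i => by simp⟩
      obtain ⟨lam, h1, h2, -⟩ := exists_lam_of_boundary hP hmv hG hz fun g e => hno g (by
        refine MvPolynomial.algHom_ext fun i => ?_
        rw [GLin.actPt, AlgHom.comp_apply, hmv, e, GLin.vecPt, MvPolynomial.aeval_X])
      exact bad lam h1 h2
    · by_contra hinf
      obtain ⟨lam, h1, h2⟩ := exists_lam_of_infinite_stab hP hmv hG hinf
      exact bad lam h1 h2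

end Groth.Agent.HMCrit
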