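import Groth.Agent.HMCrit.Weights
import Groth.Prelude.Def_SGA3t2b

/-!
# Attracting cosets

If `t ↦ g τ(t)` has a limit in the space of cosets of a linearly reductive closed subgroup `G` of `SL_N`, then
`g τ(t) = λ(t) ψ(t)` for a one-parameter subgroup `λ` of `G` and a polynomial point `ψ` of `SL_N`.
-/

set_option autoImplicit false
set_option linter.unusedSectionVars false

universe u
open TensorProduct CoordGrp WithConv Groth.Agent.GLForms AddMonoidAlgebra
open scoped LaurentPolynomial
noncomputable section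

namespace Groth.Agent.HMCrit

attribute [-simp] LaurentPolynomial.single_eq_C_mul_T DualNumber.inr_eq_smul_eps

variable {k : Type u} [Field k] {n : ℕ}

/-- Evaluation of Laurent polynomials at a unit. -/
def evalT (s : kˣ) : k[T;T⁻¹] →ₐ[k] k :=
  AddMonoidAlgebra.lift k k ℤ ((Units.coeHom k).comp (zpowersHom kˣ s))

lemma evalT_single (s : kˣ) (l : ℤ) (c : k) : evalT s (single l c) = c * (s : k) ^ l := by
  rw [evalT, AddMonoidAlgebra.lift_single]
  simp

lemma eq_zero_of_forall_evalT [Infinite k] {x : k[T;T⁻¹]} (h : ∀ s : kˣ, evalT s x = 0) : x = 0 := by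
  obtain ⟨M, N, hp⟩ := LaurentPolynomial.exists_T_pow x
  have hev : ∀ (s : kˣ) (p : Polynomial k), evalT s (Polynomial.toLaurent p) = p.eval (s : k) := fun s p => by
    induction p using Polynomial.induction_on' with
    | add p q hp hq => rw [map_add, map_add, hp, hq, Polynomial.eval_add]
    | monomial l c =>
      rw [Polynomial.toLaurent_C_mul_T, ← LaurentPolynomial.single_eq_C_mul_T, evalT_single, zpow_natCast,
        Polynomial.eval_monomial]
  have : N = 0 := by
    refine Polynomial.eq_zero_of_infinite_isRoot N (Set.Infinite.mono ?_ ((Set.finite_singleton (0 : k)).infinite_compl))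
    intro t ht
    show N.eval t = 0
    rw [← Units.val_mk0 (ht : t ≠ 0), ← hev, hp, map_mul, h, zero_mul]
  rw [this, map_zero] at hp
  exact ((LaurentPolynomial.isUnit_T _).mul_left_eq_zero).1 hp.symm

variable (r : Fin n → ℤ)

/-- The variables of the unipotent group of positive weights. -/
abbrev Up : Type := {p : Fin n × Fin n // r p.1 < r p.2}

/-- The weights of the variables. -/
def upWt (a : Up r) : ℕ := (r a.1.2 - r a.1.1).toNat

lemma one_le_upWt (a : Up r) : 1 ≤ upWt r a := by
  have := a.2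
  unfold upWt
  omega

lemma upWt_cast (a : Up r) : (upWt r a : ℤ) = r a.1.2 - r a.1.1 := by
  have := a.2
  unfold upWt
  omega

/-- A unipotent matrix of positive weights. -/
def upMat {R : Type u} [CommRing R] (v : Up r → R) : Matrix (Fin n) (Fin n) R :=
  1 + Matrix.of fun i j => if h : r i < r j then v ⟨(i, j), h⟩ else 0

lemma det_upMat {R : Type u} [CommRing R] (v : Up r → R) : (upMat r v).det = 1 := by
  classical
  have hM : Matrix.BlockTriangular (upMat r v) r := fun i j hij => by
    rw [upMat, Matrix.add_apply, Matrix.one_apply_ne (fun e => by subst e; exact lt_irrefl _ hij), Matrix.of_apply,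
      dif_neg (not_lt.2 hij.le), add_zero]
  rw [hM.det]
  refine Finset.prod_eq_one fun a _ => ?_
  rw [show (upMat r v).toSquareBlock r a = 1 from Matrix.ext fun i j => by
    rw [Matrix.toSquareBlock_def, Matrix.of_apply, upMat, Matrix.add_apply, Matrix.of_apply,
      dif_neg (by rw [i.2, j.2]; exact lt_irrefl _), add_zero, Matrix.one_apply, Matrix.one_apply]
    simp [Subtype.ext_iff], Matrix.det_one]

/-- The point of the unipotent group. -/
def upPt {R : Type u} [CommRing R] [Algebra k R] (v : Up r → R) : SLn n k →ₐ[k] R :=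
  SLn.pt n k (upMat r v) (det_upMat r v)

lemma mat_upPt {R : Type u} [CommRing R] [Algebra k R] (v : Up r → R) : mat (upPt (k := k) r v) = upMat r v :=
  mat_pt _ _

lemma upMat_map {R R' : Type u} [CommRing R] [CommRing R'] [Algebra k R] [Algebra k R'] (g : R →ₐ[k] R')
    (v : Up r → R) : (upMat r v).map g = upMat r (g ∘ v) := by
  refine Matrix.ext fun i j => ?_
  simp [upMat, Matrix.one_apply, apply_ite g, apply_dite g]

lemma upMat_zero {R : Type u} [CommRing R] : upMat r (0 : Up r → R) = 1 := by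
  refine Matrix.ext fun i j => ?_
  simp [upMat]

lemma comp_upPt {R R' : Type u} [CommRing R] [CommRing R'] [Algebra k R] [Algebra k R'] (g : R →ₐ[k] R')
    (v : Up r → R) : g.comp (upPt r v) = upPt (k := k) r (g ∘ v) :=
  point_ext (by rw [mat_comp, mat_upPt, mat_upPt, upMat_map])

/-- The scalar extension of a rational point. -/
abbrev cst {R : Type u} [CommRing R] [Algebra k R] (x : SLn n k →ₐ[k] k) : SLn n k →ₐ[k] R :=
  (Algebra.ofId k R).comp x

lemma comp_cst {R R' : Type u} [CommRing R] [CommRing R'] [Algebra k R] [Algebra k R'] (g : R →ₐ[k] R')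
    (x : SLn n k →ₐ[k] k) : g.comp (cst x) = cst x := by
  refine AlgHom.ext fun a => ?_
  exact g.commutes _

lemma comp_pmul {R R' : Type u} [CommRing R] [CommRing R'] [Algebra k R] [Algebra k R'] (g : R →ₐ[k] R')
    (a b : SLn n k →ₐ[k] R) : g.comp (pmul a b) = pmul (g.comp a) (g.comp b) :=
  point_ext (by rw [mat_comp, mat_pmul, mat_pmul, mat_comp, mat_comp, Matrix.map_mul])

variable (hr : ∑ i, r i = 0)
variable {A : Type u} [CommRing A] [HopfAlgebra k A] (q : SLn n k →ₐc[k] A)

/-- Composition of a bialgebra map with a surjection. -/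
lemma exists_bialg_lift {L : Type u} [CommRing L] [Bialgebra k L] (hq : Function.Surjective q) (z : SLn n k →ₐc[k] L)
    (h : ∀ a, qa q a = 0 → z a = 0) : ∃ lam : A →ₐc[k] L, ∀ a, lam (qa q a) = z a := by
  let l : A →ₐ[k] L := AlgHom.liftOfSurjective (qa q) hq (z : SLn n k →ₐ[k] L) (fun a ha => h a ha)
  have hl : ∀ a, l (qa q a) = z a := fun a => AlgHom.liftOfSurjective_apply (qa q) hq _ _ a
  refine ⟨BialgHom.ofAlgHom l ?_ ?_, hl⟩
  · refine AlgHom.ext fun b => ?_
    obtain ⟨a, rfl⟩ := hq b
    show CoalgebraStruct.counit (R := k) (l (qa q a)) = CoalgebraStruct.counit (R := k) (qa q a)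
    rw [hl]
    exact (CoalgHomClass.counit_comp_apply z a).trans (CoalgHomClass.counit_comp_apply q a).symm
  · refine AlgHom.ext fun b => ?_
    obtain ⟨a, rfl⟩ := hq b
    show Algebra.TensorProduct.map l l (CoalgebraStruct.comul (R := k) (q a)) = CoalgebraStruct.comul (R := k) (l (qa q a))
    rw [hl, ← CoalgHomClass.map_comp_comul_apply q, ← CoalgHomClass.map_comp_comul_apply z]
    generalize (CoalgebraStruct.comul (R := k) a : SLn n k ⊗[k] SLn n k) = t
    induction t using TensorProduct.induction_on with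
    | zero => simp
    | tmul a b => simp only [TensorProduct.map_tmul, Algebra.TensorProduct.map_tmul]; exact congrArg₂ _ (hl a) (hl b)
    | add a b ha hb => simp only [map_add, ha, hb]

variable [IsAlgClosed k] [CharZero k] [Algebra.FiniteType k A] (hG : HopfRep.IsLinearlyReductive k A)
variable (hq : Function.Surjective q)

lemma lt_fixed {x : SLn n k →ₐ[k] k} (hx : ∀ f ∈ rInv q, ∀ m, m ≠ 0 → x (wpart r hr f m) = 0) {f : SLn n k}
    (hf : f ∈ rInv q) : lt r hr x f = single 0 (x f) := by
  have h0 : ∀ m, (lt r hr x f).coeff m = if 0 = m then x (wpart r hr f 0) else 0 := fun m => by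
    rw [coeff_lt]
    split_ifs with h
    · rw [h]
    · exact hx f hf m (Ne.symm h)
  have h1 : x (wpart r hr f 0) = x f := by
    conv_rhs => rw [← sum_wpart r hr f, map_sum]
    rw [Finset.sum_eq_single (0 : ℤ) (fun m _ hm => hx f hf m hm)]
    intro h
    rw [wpart, Finsupp.notMem_support_iff.1 h, map_zero]
  refine AddMonoidAlgebra.ext ?_
  refine Finsupp.ext fun m => ?_
  rw [h0, h1, coeff_single, Finsupp.single_apply]

include hG hq in
/-- A fixed coset gives a one-parameter subgroup of the subgroup. -/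
theorem exists_lam {x : SLn n k →ₐ[k] k} (hx : ∀ f ∈ rInv q, ∀ m, m ≠ 0 → x (wpart r hr f m) = 0) :
    ∃ lam : A →ₐc[k] k[T;T⁻¹], mat ((lam : A →ₐ[k] k[T;T⁻¹]).comp (qa q)) =
      (mat x)⁻¹.map (algebraMap k k[T;T⁻¹]) * Matrix.diagonal (fun i => LaurentPolynomial.T (r i)) *
        (mat x).map (algebraMap k k[T;T⁻¹]) := by
  classical
  have hdx : IsUnit (mat x).det := by rw [det_mat]; exact isUnit_one
  have hxx : (mat x)⁻¹ * mat x = 1 := Matrix.nonsing_inv_mul _ hdx
  have hxx' : mat x * (mat x)⁻¹ = 1 := Matrix.mul_nonsing_inv _ hdx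
  let G : Matrix (Fin n) (Fin n) k[T;T⁻¹] := (mat x).map (algebraMap k k[T;T⁻¹])
  let G' : Matrix (Fin n) (Fin n) k[T;T⁻¹] := (mat x)⁻¹.map (algebraMap k k[T;T⁻¹])
  have hG1 : G' * G = 1 := by
    rw [← Matrix.map_mul, hxx, Matrix.map_one _ (map_zero _) (map_one _)]
  have hG2 : G * G' = 1 := by
    rw [← Matrix.map_mul, hxx', Matrix.map_one _ (map_zero _) (map_one _)]
  let D : Matrix (Fin n) (Fin n) k[T;T⁻¹] := Matrix.diagonal fun i => LaurentPolynomial.T (r i)
  have hD : Comod.IsCorep (k := k) D := isCorep_torus k r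
  have hdet : (G' * D * G).det = 1 := by
    rw [Matrix.det_mul_comm, ← Matrix.mul_assoc, hG2, Matrix.one_mul]
    exact det_torusMat k r hr
  have hcorep : Comod.IsCorep (k := k) (G' * D * G) := by
    constructor
    · simp only [Matrix.map_mul, hD.map_comul, G, G', Matrix.map_map]
      have e1 : ∀ (X : Matrix (Fin n) (Fin n) k) (g : k[T;T⁻¹] →ₐ[k] k[T;T⁻¹] ⊗[k] k[T;T⁻¹]),
          X.map (g ∘ algebraMap k k[T;T⁻¹]) = X.map (algebraMap k _) :=
        fun X g => Matrix.ext fun i j => g.commutes _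
      simp only [e1, Matrix.mul_assoc]
      rw [← Matrix.mul_assoc ((mat x).map (algebraMap k (k[T;T⁻¹] ⊗[k] k[T;T⁻¹]))) ((mat x)⁻¹.map _), ← Matrix.map_mul,
        hxx', Matrix.map_one _ (map_zero _) (map_one _), Matrix.one_mul]
    · simp only [Matrix.map_mul, hD.map_counit, G, G', Matrix.map_map, Matrix.mul_one]
      rw [show ⇑(Bialgebra.counitAlgHom k k[T;T⁻¹]) ∘ ⇑(algebraMap k k[T;T⁻¹]) = id from
        funext fun c => (Bialgebra.counitAlgHom k k[T;T⁻¹]).commutes c, Matrix.map_id, Matrix.map_id, hxx]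
  let z : SLn n k →ₐc[k] k[T;T⁻¹] := ptBialg _ hdet hcorep
  have hz : mat (z : SLn n k →ₐ[k] k[T;T⁻¹]) = G' * D * G := Matrix.ext fun i j => ptBialg_X _ hdet hcorep i j
  obtain ⟨lam, hlam⟩ := exists_bialg_lift q hq z fun a ha => by
    refine eq_zero_of_forall_evalT fun s => ?_
    obtain ⟨g, hg⟩ := exists_of_forall_eq q hq hG x ((evalT s).comp (lt r hr x)) fun f hf => by
      rw [AlgHom.comp_apply, lt_fixed r hr q hx hf, evalT_single, zpow_zero, mul_one]
    have hev : (evalT s).comp (z : SLn n k →ₐ[k] k[T;T⁻¹]) = pinv (g.comp (qa q)) := by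
      refine point_ext ?_
      have hE : ∀ (X : Matrix (Fin n) (Fin n) k), X.map (evalT s ∘ algebraMap k k[T;T⁻¹]) = X :=
        fun X => Matrix.ext fun i j => (evalT s).commutes _
      have h1 : mat x * mat (g.comp (qa q)) = Matrix.diagonal (fun i => (s : k) ^ (-r i)) * mat x := by
        rw [← mat_pmul, ← hg, mat_comp, mat_lt, Matrix.map_mul, Matrix.map_map, Matrix.diagonal_map (map_zero _)]
        congr 1
        · congr 1; funext i; simp [evalT_single]
        · refine Matrix.ext fun i j => ?_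
          simp [evalT_single]
      rw [pinv_mat, mat_comp, hz, Matrix.map_mul, Matrix.map_mul, Matrix.map_map, Matrix.map_map, hE, hE,
        Matrix.diagonal_map (map_zero _)]
      symm
      refine Matrix.inv_eq_left_inv ?_
      rw [show mat (g.comp (qa q)) = (mat x)⁻¹ * (Matrix.diagonal (fun i => (s : k) ^ (-r i)) * mat x) by
        rw [← h1, ← Matrix.mul_assoc, hxx, Matrix.one_mul]]
      simp only [Matrix.mul_assoc]
      rw [← Matrix.mul_assoc (mat x) (mat x)⁻¹, hxx', Matrix.one_mul,
        ← Matrix.mul_assoc (Matrix.diagonal _) (Matrix.diagonal _), Matrix.diagonal_mul_diagonal]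
      rw [show (fun i => evalT s (LaurentPolynomial.T (r i)) * (s : k) ^ (-r i)) = fun _ => (1 : k) from funext fun i => by
        rw [LaurentPolynomial.T, evalT_single, one_mul, ← zpow_add₀ s.ne_zero, add_neg_cancel, zpow_zero]]
      rw [Matrix.diagonal_one, Matrix.one_mul, hxx]
    have := DFunLike.congr_fun hev a
    rw [pinv_comp_bialg, AlgHom.comp_apply, AlgHom.comp_apply, ha, map_zero] at this
    exact this
  refine ⟨lam, ?_⟩
  rw [show (lam : A →ₐ[k] k[T;T⁻¹]).comp (qa q) = (z : SLn n k →ₐ[k] k[T;T⁻¹]) from AlgHom.ext hlam, hz]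

/-- The polynomial function on the unipotent group given by a function and a point. -/
abbrev upFun (x' : SLn n k →ₐ[k] k) : SLn n k →ₐ[k] MvPolynomial (Up r) k :=
  pmul (upPt r MvPolynomial.X) (cst x')

set_option maxHeartbeats 1000000 in
/-- The unipotent group is scaled by the one-parameter subgroup fixing the coset. -/
lemma lt_upFun {x' : SLn n k →ₐ[k] k} {lam : A →ₐc[k] k[T;T⁻¹]}
    (hlam : mat ((lam : A →ₐ[k] k[T;T⁻¹]).comp (qa q)) = (mat x')⁻¹.map (algebraMap k k[T;T⁻¹]) *
      Matrix.diagonal (fun i => LaurentPolynomial.T (r i)) * (mat x').map (algebraMap k k[T;T⁻¹]))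
    {f : SLn n k} {m : ℤ} (hf : f ∈ rInv q) (hwt : IsWt r hr f m) :
    wscale (upWt r) (upFun r x' f) = single m (upFun r x' f) := by
  let P := MvPolynomial (Up r) k
  let pu : SLn n k →ₐ[k] P := upFun r x'
  let Λ : k[T;T⁻¹] →ₐ[k] LR P := mapAlgHom ℤ (Algebra.ofId k P)
  have e : lt r hr pu = pmul ((wscale (upWt r)).comp pu)
      ((Λ.comp (pinv (lam : A →ₐ[k] k[T;T⁻¹]))).comp (qa q)) := by
    refine point_ext ?_
    have hxx' : mat x' * (mat x')⁻¹ = 1 := Matrix.mul_nonsing_inv _ (by rw [det_mat]; exact isUnit_one)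
    have hl : mat ((Λ.comp (pinv (lam : A →ₐ[k] k[T;T⁻¹]))).comp (qa q)) =
        (mat x')⁻¹.map (algebraMap k (LR P)) * Matrix.diagonal (fun i => single (-r i) 1) *
          (mat x').map (algebraMap k (LR P)) := by
      rw [AlgHom.comp_assoc, ← pinv_comp_bialg, mat_comp, pinv_mat, hlam]
      rw [show ((mat x')⁻¹.map (algebraMap k k[T;T⁻¹]) * Matrix.diagonal (fun i => LaurentPolynomial.T (r i)) *
          (mat x').map (algebraMap k k[T;T⁻¹]))⁻¹ = (mat x')⁻¹.map (algebraMap k k[T;T⁻¹]) *
            Matrix.diagonal (fun i => LaurentPolynomial.T (-r i)) * (mat x').map (algebraMap k k[T;T⁻¹]) from by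
        refine Matrix.inv_eq_left_inv ?_
        simp only [Matrix.mul_assoc]
        rw [← Matrix.mul_assoc ((mat x').map _) ((mat x')⁻¹.map _), ← Matrix.map_mul, hxx',
          Matrix.map_one _ (map_zero _) (map_one _), Matrix.one_mul, ← Matrix.mul_assoc (Matrix.diagonal _)
          (Matrix.diagonal _), Matrix.diagonal_mul_diagonal]
        simp only [← LaurentPolynomial.T_add, neg_add_cancel, LaurentPolynomial.T_zero, Matrix.diagonal_one,
          Matrix.one_mul, ← Matrix.map_mul]
        rw [Matrix.nonsing_inv_mul _ (by rw [det_mat]; exact isUnit_one), Matrix.map_one _ (map_zero _) (map_one _)]]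
      rw [Matrix.map_mul, Matrix.map_mul, Matrix.map_map, Matrix.map_map, Matrix.diagonal_map (map_zero _)]
      congr 1
      · congr 1
        · exact Matrix.ext fun i j => Λ.commutes _
        · congr 1; funext i; simp [Λ, LaurentPolynomial.T]
      · exact Matrix.ext fun i j => Λ.commutes _
    conv_rhs => rw [mat_pmul, hl]
    simp only [pu, upFun, mat_lt, mat_pmul, mat_comp, mat_upPt, Matrix.map_mul, upMat_map, Matrix.map_map]
    have h1 : (mat x').map (⇑(wscale (upWt r)) ∘ ⇑(Algebra.ofId k P)) = (mat x').map (algebraMap k (LR P)) :=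
      Matrix.ext fun i j => (wscale (upWt r)).commutes _
    have h2 : (mat x').map (⇑(singleZeroAlgHom (R := k) (A := P) (M := ℤ)) ∘ ⇑(Algebra.ofId k P)) = (mat x').map (algebraMap k (LR P)) :=
      Matrix.ext fun i j => (singleZeroAlgHom (R := k) (A := P) (M := ℤ)).commutes _
    rw [h1, h2]
    simp only [Matrix.mul_assoc]
    rw [← Matrix.mul_assoc ((mat x').map _) ((mat x')⁻¹.map _), ← Matrix.map_mul, hxx',
      Matrix.map_one _ (map_zero _) (map_one _), Matrix.one_mul, ← Matrix.mul_assoc, ← Matrix.mul_assoc]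
    congr 1
    refine Matrix.ext fun i j => ?_
    rw [Matrix.diagonal_mul, Matrix.mul_diagonal]
    simp only [upMat, Matrix.add_apply, Matrix.of_apply, mul_add, add_mul, Function.comp_apply]
    congr 1
    · by_cases hij : i = j
      · subst hij; simp
      · simp [Matrix.one_apply_ne hij]
    · by_cases hij : r i < r j
      · rw [dif_pos hij, dif_pos hij]
        show single (-r i) 1 * single (0 : ℤ) (MvPolynomial.X _) = wscale (upWt r) (MvPolynomial.X _) * single (-r j) 1
        rw [wscale, MvPolynomial.aeval_X, single_mul_single, single_mul_single, upWt_cast, one_mul, mul_one]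
        congr 1
        dsimp only
        omega
      · rw [dif_neg hij, dif_neg hij, mul_zero, zero_mul]
  have h := DFunLike.congr_fun e f
  rw [hwt.lt_eq r hr pu, rInv_apply_pmul q hf, AlgHom.comp_apply] at h
  exact h.symm

/-- A function of positive weight without linear part on the unipotent group vanishes to second order. -/
lemma mem_sq_of_linear_part {x' : SLn n k →ₐ[k] k} {lam : A →ₐc[k] k[T;T⁻¹]}
    (hlam : mat ((lam : A →ₐ[k] k[T;T⁻¹]).comp (qa q)) = (mat x')⁻¹.map (algebraMap k k[T;T⁻¹]) *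
      Matrix.diagonal (fun i => LaurentPolynomial.T (r i)) * (mat x').map (algebraMap k k[T;T⁻¹]))
    {N : ℕ} (hN : 1 ≤ N) {f : SLn n k} (hfi : f ∈ rInv q) (hwt : IsWt r hr f (N : ℤ)) (hx'f : x' f = 0)
    (hL : ∀ a : Up r, upWt r a = N → MvPolynomial.coeff (Finsupp.single a 1) (upFun r x' f) = 0) :
    f ∈ RingHom.ker x' ^ 2 := by
  classical
  let pu : SLn n k →ₐ[k] MvPolynomial (Up r) k := upFun r x'
  obtain ⟨F, hF⟩ : ∃ F : MvPolynomial (Fin n × Fin n) k, MvPolynomial.aeval (fun p => SLn.X p.1 p.2) F = f := by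
    obtain ⟨(F₁ : MvPolynomial (GLPoly.Idx n) k), hF₁⟩ := ((Ideal.Quotient.mk_surjective (I := GLn.slIdeal n k)).comp
      (Ideal.Quotient.mk_surjective (I := GLb.relIdeal n k))) f
    refine ⟨MvPolynomial.aeval (Sum.elim MvPolynomial.X fun _ => 1) F₁, ?_⟩
    rw [← AlgHom.comp_apply, MvPolynomial.comp_aeval, ← hF₁]
    show _ = ((SLn.mk n k).comp (GLn.mk n k : MvPolynomial (GLPoly.Idx n) k →ₐ[k] GLn n k)) F₁
    refine DFunLike.congr_fun (MvPolynomial.algHom_ext fun s => ?_) F₁
    rw [MvPolynomial.aeval_X]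
    rcases s with ⟨i, j⟩ | u
    · simp
      rfl
    · simp only [Sum.elim_inr, map_one]
      exact mk_Dinv_eq_one.symm
  let c : Fin n → Fin n → k := fun a b =>
    ∑ e, MvPolynomial.eval (fun p => x' (SLn.X p.1 p.2)) (MvPolynomial.pderiv (a, e) F) * x' (SLn.X b e)
  -- value on a first order deformation `1 + εY`
  have hD : ∀ (y : SLn n k →ₐ[k] DualNumber k) (Y : Matrix (Fin n) (Fin n) k),
      mat y = (1 + Y.map TrivSqZeroExt.inr) * (mat x').map (algebraMap k (DualNumber k)) →
        (y f).snd = ∑ a, ∑ b, c a b * Y a b := by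
    intro y Y hy
    have hyX : ∀ p : Fin n × Fin n, y (SLn.X p.1 p.2) =
        TrivSqZeroExt.inl (x' (SLn.X p.1 p.2)) + TrivSqZeroExt.inr (∑ e, Y p.1 e * x' (SLn.X e p.2)) := fun p => by
      have := congrFun (congrFun hy p.1) p.2
      rw [Matrix.add_mul, Matrix.one_mul, Matrix.add_apply, Matrix.mul_apply] at this
      refine this.trans ?_
      simp only [Matrix.map_apply, TrivSqZeroExt.algebraMap_eq_inl]
      congr 1
      refine TrivSqZeroExt.ext (by simp [TrivSqZeroExt.fst_sum]) ?_
      simp [TrivSqZeroExt.snd_sum]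
      rfl
    rw [← hF, ← AlgHom.comp_apply, MvPolynomial.comp_aeval,
      show (fun p : Fin n × Fin n => y (SLn.X p.1 p.2)) = _ from funext hyX, (snd_aeval_dual _ _ F).2,
      Fintype.sum_prod_type]
    refine Finset.sum_congr rfl fun a _ => ?_
    simp only [c, Finset.mul_sum, Finset.sum_mul]
    rw [Finset.sum_comm]
    exact Finset.sum_congr rfl fun b _ => Finset.sum_congr rfl fun e _ => by ring
  let pt : ∀ Y : Matrix (Fin n) (Fin n) k, (1 + Y.map TrivSqZeroExt.inr :
      Matrix (Fin n) (Fin n) (DualNumber k)).det = 1 → (SLn n k →ₐ[k] DualNumber k) :=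
    fun Y h => pmul (SLn.pt n k _ h) (cst x')
  have hpt : ∀ Y h, mat (pt Y h) = (1 + Y.map TrivSqZeroExt.inr) * (mat x').map (algebraMap k (DualNumber k)) :=
    fun Y h => by rw [mat_pmul, mat_pt, mat_comp]; rfl
  -- homogeneity of the linear part
  have hscal : ∀ (Y : Matrix (Fin n) (Fin n) k) (h : (1 + Y.map TrivSqZeroExt.inr : Matrix (Fin n) (Fin n) (DualNumber k)).det = 1)
      (s : kˣ), ∑ a, ∑ b, c a b * ((s : k) ^ (r b - r a) * Y a b) = (s : k) ^ (N : ℤ) * ∑ a, ∑ b, c a b * Y a b := by
    intro Y h s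
    let ev : LR (DualNumber k) →ₐ[k] DualNumber k :=
      (AddMonoidAlgebra.lift (DualNumber k) (DualNumber k) ℤ
        ((algebraMap k (DualNumber k)).toMonoidHom.comp ((Units.coeHom k).comp (zpowersHom kˣ s)))).restrictScalars k
    have hev : ∀ l e, ev (single l e) = e * algebraMap k (DualNumber k) ((s : k) ^ l) := fun l e => by
      show AddMonoidAlgebra.lift (DualNumber k) (DualNumber k) ℤ _ (single l e) = _
      rw [AddMonoidAlgebra.lift_single]
      simp
    let z := pmul (ev.comp (lt r hr (pt Y h))) (((Algebra.ofId k (DualNumber k)).comp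
      ((evalT s).comp (lam : A →ₐ[k] k[T;T⁻¹]))).comp (qa q))
    have hzf : z f = algebraMap k (DualNumber k) ((s : k) ^ (N : ℤ)) * pt Y h f := by
      rw [show z f = ev (lt r hr (pt Y h) f) from rInv_apply_pmul q hfi _ _, hwt.lt_eq r hr, hev, mul_comm]
    have hzY : mat z = (1 + (Matrix.of fun a b => (s : k) ^ (r b - r a) * Y a b).map TrivSqZeroExt.inr) *
        (mat x').map (algebraMap k (DualNumber k)) := by
      have hxx' : mat x' * (mat x')⁻¹ = 1 := Matrix.mul_nonsing_inv _ (by rw [det_mat]; exact isUnit_one)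
      rw [mat_pmul, mat_comp, mat_lt, hpt, AlgHom.comp_assoc, AlgHom.comp_assoc, mat_comp, mat_comp, hlam]
      simp only [Matrix.map_mul, Matrix.map_map, Matrix.diagonal_map (map_zero _)]
      have h1 : (mat x').map (ev ∘ singleZeroAlgHom (R := k) ∘ algebraMap k (DualNumber k)) =
          (mat x').map (algebraMap k (DualNumber k)) := Matrix.ext fun i j => by
        simp only [Matrix.map_apply, Function.comp_apply]
        exact (hev 0 _).trans (by simp)
      have h2 : ∀ X : Matrix (Fin n) (Fin n) k, X.map (Algebra.ofId k (DualNumber k) ∘ evalT s ∘ algebraMap k k[T;T⁻¹]) =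
          X.map (algebraMap k (DualNumber k)) := fun X => Matrix.ext fun i j =>
        congrArg (algebraMap k (DualNumber k)) ((evalT s).commutes (X i j))
      rw [h1, h2, h2]
      simp only [Matrix.mul_assoc]
      rw [← Matrix.mul_assoc ((mat x').map _) ((mat x')⁻¹.map _), ← Matrix.map_mul, hxx',
        Matrix.map_one _ (map_zero _) (map_one _), Matrix.one_mul, ← Matrix.mul_assoc, ← Matrix.mul_assoc]
      congr 1
      refine Matrix.ext fun a b => ?_
      rw [Matrix.mul_diagonal, Matrix.diagonal_mul]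
      simp only [Function.comp_apply, Matrix.map_apply, Matrix.add_apply, Matrix.of_apply, hev, LaurentPolynomial.T,
        evalT_single, one_mul, map_mul, map_add, Algebra.ofId_apply]
      have hsp : ∀ e : DualNumber k, ev (singleZeroAlgHom (R := k) e) = e := fun e =>
        (hev 0 e).trans (by simp)
      rw [hsp, hsp]
      have hs : (s : k) ≠ 0 := s.ne_zero
      by_cases hab : a = b
      · subst hab
        refine TrivSqZeroExt.ext (by simp [zpow_neg, hs, TrivSqZeroExt.algebraMap_eq_inl]; exact inv_mul_cancel₀ (zpow_ne_zero _ hs)) ?_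
        simp [zpow_neg, TrivSqZeroExt.algebraMap_eq_inl, hs]
        field_simp
      · refine TrivSqZeroExt.ext (by simp [Matrix.one_apply_ne hab]) ?_
        simp [Matrix.one_apply_ne hab, TrivSqZeroExt.algebraMap_eq_inl, zpow_sub₀ hs]
        field_simp
    have h1 := hD z _ hzY
    have h2 := hD (pt Y h) Y (hpt Y h)
    rw [hzf] at h1
    simp only [Matrix.of_apply] at h1
    rw [← h1, ← h2]
    simp [TrivSqZeroExt.algebraMap_eq_inl]
  obtain ⟨s, hs⟩ : ∃ s : kˣ, ∀ l : ℤ, l ≠ 0 → (s : k) ^ l ≠ 1 := by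
    refine ⟨Units.mk0 (2 : k) two_ne_zero, fun l hl h => ?_⟩
    rw [Units.val_mk0] at h
    have hnat : ((2 ^ l.natAbs : ℕ) : k) = ((1 : ℕ) : k) := by
      push_cast
      rcases Int.natAbs_eq l with e | e
      · rw [← zpow_natCast, ← e, h]
      · rw [← inv_inj, ← zpow_natCast, ← zpow_neg, ← e, h, inv_one]
    have := Nat.cast_injective (R := k) hnat
    exact hl (Int.natAbs_eq_zero.1 (by
      rcases Nat.eq_zero_or_pos l.natAbs with e | e
      · exact e
      · exact absurd this (Nat.one_lt_two_pow e.ne').ne'))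
  have hoff : ∀ a b : Fin n, a ≠ b → c a b = 0 := by
    intro a b hab
    let Y : Matrix (Fin n) (Fin n) k := Matrix.single a b 1
    have hdetY : (1 + Y.map TrivSqZeroExt.inr : Matrix (Fin n) (Fin n) (DualNumber k)).det = 1 := by
      rw [show Y.map TrivSqZeroExt.inr = Matrix.single a b (TrivSqZeroExt.inr (1 : k)) from
        Matrix.ext fun i j => by simp [Y, Matrix.single_apply, apply_ite (TrivSqZeroExt.inr (R := k) (M := k))]]
      exact Matrix.det_transvection_of_ne a b hab _
    have h := hscal Y hdetY s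
    simp only [Y, Matrix.single_apply, mul_ite, mul_one, mul_zero, ite_and] at h
    simp only [Finset.sum_ite_irrel, Finset.sum_const_zero, Finset.sum_ite_eq, Finset.mem_univ, if_true] at h
    by_cases hw : r b - r a = N
    · have hlt : r a < r b := by omega
      have hwN : upWt r ⟨(a, b), hlt⟩ = N := by
        unfold upWt
        simp only
        omega
      have hl := hL ⟨(a, b), hlt⟩ hwN
      let v₁ : Up r → DualNumber k := fun e => if e = ⟨(a, b), hlt⟩ then TrivSqZeroExt.inr 1 else 0
      have e1 : pt Y hdetY = (MvPolynomial.aeval v₁).comp pu := by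
        rw [comp_pmul, comp_upPt, comp_cst]
        refine congrArg (fun z => pmul z (cst x')) (point_ext ?_)
        rw [mat_pt, mat_upPt]
        refine Matrix.ext fun i j => ?_
        simp only [upMat, Matrix.add_apply, Matrix.of_apply, Matrix.map_apply, Y, Matrix.single_apply,
          Function.comp_apply, MvPolynomial.aeval_X, v₁]
        congr 1
        by_cases hij : r i < r j
        · rw [dif_pos hij]
          simp [Subtype.ext_iff, Prod.ext_iff, apply_ite (TrivSqZeroExt.inr (R := k) (M := k)), eq_comm]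
        · rw [dif_neg hij, if_neg (fun h => hij (by rw [← h.1, ← h.2]; exact hlt)), TrivSqZeroExt.inr_zero]
      have h3 := hD (pt Y hdetY) Y (hpt Y hdetY)
      simp only [Y, Matrix.single_apply, mul_ite, mul_one, mul_zero, ite_and, Finset.sum_ite_irrel,
        Finset.sum_const_zero, Finset.sum_ite_eq, Finset.mem_univ, if_true] at h3
      rw [← h3, e1, AlgHom.comp_apply]
      have h4 := (snd_aeval_dual (0 : Up r → k) (fun e => if e = ⟨(a, b), hlt⟩ then 1 else 0) (pu f)).2
      rw [show (fun i => TrivSqZeroExt.inl ((0 : Up r → k) i) +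
        TrivSqZeroExt.inr (if i = ⟨(a, b), hlt⟩ then (1 : k) else 0)) = v₁ from funext fun e => by
          simp [v₁, apply_ite (TrivSqZeroExt.inr (R := k) (M := k))]] at h4
      rw [h4, Finset.sum_eq_single ⟨(a, b), hlt⟩ (fun e _ he => by simp [he]) (by simp), if_pos rfl, mul_one,
        MvPolynomial.eval_zero, MvPolynomial.constantCoeff_eq]
      have hpd : MvPolynomial.coeff 0 (MvPolynomial.pderiv ⟨(a, b), hlt⟩ (pu f)) =
          MvPolynomial.coeff (Finsupp.single ⟨(a, b), hlt⟩ 1) (pu f) := by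
        rw [MvPolynomial.coeff_pderiv]
        simp
      rw [hpd]
      exact hl
    · have h5 : c a b * ((s : k) ^ (r b - r a) - (s : k) ^ (N : ℤ)) = 0 := by
        rw [mul_sub, h]
        ring
      refine (mul_eq_zero.1 h5).resolve_right (sub_ne_zero.2 fun e => hs (r b - r a - N) (sub_ne_zero.2 hw) ?_)
      rw [zpow_sub₀ s.ne_zero, e, div_self (zpow_ne_zero _ s.ne_zero)]
  refine mem_sq_of_forall_dual x' hx'f fun y hy => ?_
  let M1 := mat y * ((mat x')⁻¹).map (algebraMap k (DualNumber k))
  let Y : Matrix (Fin n) (Fin n) k := Matrix.of fun a b => (M1 a b).snd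
  have hM1 : M1 = 1 + Y.map TrivSqZeroExt.inr := by
    refine Matrix.ext fun a b => TrivSqZeroExt.ext ?_ ?_
    · have : (M1 a b).fst = (1 : Matrix (Fin n) (Fin n) k) a b := by
        rw [← Matrix.mul_nonsing_inv (mat x') (by rw [det_mat]; exact isUnit_one)]
        simp only [M1, Matrix.mul_apply, TrivSqZeroExt.fst_sum, TrivSqZeroExt.fst_mul, Matrix.map_apply,
          TrivSqZeroExt.algebraMap_eq_inl, TrivSqZeroExt.fst_inl]
        exact Finset.sum_congr rfl fun e _ => congrArg (· * _) (hy _)
      rw [this, Matrix.add_apply, TrivSqZeroExt.fst_add, Matrix.map_apply, TrivSqZeroExt.fst_inr, add_zero]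
      simp [Matrix.one_apply, apply_ite TrivSqZeroExt.fst]
    · simp [Y, Matrix.one_apply, apply_ite TrivSqZeroExt.snd]
  have hdetY : (1 + Y.map TrivSqZeroExt.inr : Matrix (Fin n) (Fin n) (DualNumber k)).det = 1 := by
    rw [← hM1, Matrix.det_mul, det_mat, one_mul]
    show ((algebraMap k (DualNumber k)).mapMatrix (mat x')⁻¹).det = 1
    rw [← RingHom.map_det]
    rw [Matrix.det_nonsing_inv, det_mat, Ring.inverse_one, map_one]
  have hyY : mat y = (1 + Y.map TrivSqZeroExt.inr) * (mat x').map (algebraMap k (DualNumber k)) := by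
    rw [← hM1, Matrix.mul_assoc, ← Matrix.map_mul, Matrix.nonsing_inv_mul _ (by rw [det_mat]; exact isUnit_one),
      Matrix.map_one _ (map_zero _) (map_one _), Matrix.mul_one]
  rw [hD y Y hyY]
  have h := hscal Y hdetY s
  have hdiag : ∀ F : Fin n → Fin n → k, ∑ a, ∑ b, c a b * F a b = ∑ a, c a a * F a a := fun F =>
    Finset.sum_congr rfl fun a _ => Finset.sum_eq_single a
      (fun b _ hb => by rw [hoff a b hb.symm, zero_mul]) (by simp)
  rw [hdiag fun a b => (s : k) ^ (r b - r a) * Y a b, hdiag fun a b => Y a b] at h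
  simp only [sub_self, zpow_zero, one_mul] at h
  rw [hdiag fun a b => Y a b]
  by_contra hne
  exact hs N (by omega) ((mul_eq_right₀ hne).1 h.symm)

/-- Second order invariants have equal components at two points agreeing below. -/
lemma wpart_eq_of_mem_sq {x₀ x' y : SLn n k →ₐ[k] k} (hx₀ : ∀ f ∈ rInv q, ∀ m < 0, x₀ (wpart r hr f m) = 0)
    (hx' : ∀ f ∈ rInv q, x' f = x₀ (wpart r hr f 0)) {N : ℕ}
    (hA1 : ∀ m : ℤ, m < 1 → ∀ f ∈ rInv q, IsWt r hr f m → y f = x₀ f)
    (hA : ∀ m : ℤ, m < N → ∀ f ∈ rInv q, IsWt r hr f m → y f = x₀ f)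
    {g : rInv q} (hg : g ∈ RingHom.ker (x'.comp (rInv q).val) ^ 2) :
    x₀ (wpart r hr g (N : ℤ)) = y (wpart r hr g (N : ℤ)) := by
  classical
    rw [← coeff_lt, ← coeff_lt]
  rw [pow_two] at hg
  refine Submodule.mul_induction_on hg (fun a ha b hb => ?_) fun a b ha hb => ?_
  · have hlow : ∀ c : rInv q, x' (c : SLn n k) = 0 → ∀ i < (1 : ℤ),
        (lt r hr x₀ (c : SLn n k)).coeff i = 0 ∧ (lt r hr y (c : SLn n k)).coeff i = 0 := by
      intro c hc i hi
      have hcm := wpart_mem_rInv r hr q c.2 i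
      have h1 : (lt r hr y (c : SLn n k)).coeff i = (lt r hr x₀ (c : SLn n k)).coeff i := by
        rw [coeff_lt, coeff_lt]
        exact hA1 i (by exact_mod_cast hi) _ hcm (isWt_wpart r hr _ i)
      rw [h1, and_self, coeff_lt]
      rcases lt_or_eq_of_le (show i ≤ 0 by omega) with h | h
      · exact hx₀ _ c.2 i h
      · rw [h, ← hx' _ c.2, hc]
    have heq : ∀ c : rInv q, ∀ i < (N : ℤ), (lt r hr x₀ (c : SLn n k) - lt r hr y (c : SLn n k)).coeff i = 0 := by
      intro c i hi
      rw [coeff_sub, Finsupp.sub_apply, coeff_lt, coeff_lt,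
        hA i hi _ (wpart_mem_rInv r hr q c.2 i) (isWt_wpart r hr _ i), sub_self]
    have hla := hlow a (RingHom.mem_ker.1 ha)
    have hlb := hlow b (RingHom.mem_ker.1 hb)
    rw [← sub_eq_zero, ← Finsupp.sub_apply, ← coeff_sub]
    push_cast
    rw [map_mul, map_mul, show lt r hr x₀ (a : SLn n k) * lt r hr x₀ (b : SLn n k) - lt r hr y (a : SLn n k) * lt r hr y (b : SLn n k) =
      (lt r hr x₀ (a : SLn n k) - lt r hr y (a : SLn n k)) * lt r hr x₀ (b : SLn n k) +
        lt r hr y (a : SLn n k) * (lt r hr x₀ (b : SLn n k) - lt r hr y (b : SLn n k)) by ring,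
      coeff_add, Finsupp.add_apply,
      coeff_mul_eq_zero _ _ (N : ℤ) 1 (heq a) (fun i hi => (hlb i hi).1) (by omega),
      coeff_mul_eq_zero _ _ 1 (N : ℤ) (fun i hi => (hla i hi).2) (heq b) (by omega), add_zero]
  · push_cast
    rw [map_add, map_add, coeff_add, Finsupp.add_apply, coeff_add, Finsupp.add_apply, ha, hb]

include hG hq in
/-- A point whose coset has a limit is, up to the subgroup, the limit moved by the unipotent group. -/
theorem exists_unipotent {x₀ x' : SLn n k →ₐ[k] k} (hx₀ : ∀ f ∈ rInv q, ∀ m < 0, x₀ (wpart r hr f m) = 0)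
    (hx' : ∀ f ∈ rInv q, x' f = x₀ (wpart r hr f 0)) :
    ∃ v : Up r → k, ∀ f ∈ rInv q, pmul (upPt r v) x' f = x₀ f := by
  classical
  have hfix : ∀ f ∈ rInv q, ∀ m, m ≠ 0 → x' (wpart r hr f m) = 0 := fun f hf m hm => by
    rw [hx' _ (wpart_mem_rInv r hr q hf m), (isWt_wpart r hr f m).wpart_eq, if_neg hm, map_zero]
  obtain ⟨lam, hlam⟩ := exists_lam r hr q hG hq hfix
  let P := MvPolynomial (Up r) k
  let pu : SLn n k →ₐ[k] P := pmul (upPt r MvPolynomial.X) (cst x')
  let W : ℤ → Submodule k (SLn n k) := fun m =>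
    (rInv q).toSubmodule ⊓ LinearMap.eqLocus (lt r hr (AlgHom.id k (SLn n k))).toLinearMap
      ((AddMonoidAlgebra.lsingle (R := SLn n k) m).restrictScalars k)
  have hWmem : ∀ {f m}, f ∈ W m → f ∈ rInv q ∧ IsWt r hr f m := fun h => h
  have hval : ∀ (v : Up r → k) (f : SLn n k), pmul (upPt r v) x' f = MvPolynomial.eval v (pu f) := fun v f => by
    have hcomp : pmul (upPt r v) x' = (MvPolynomial.aeval v).comp pu := by
      refine point_ext ?_
      rw [mat_comp, mat_pmul, mat_pmul, mat_comp, Matrix.map_mul, mat_upPt, mat_upPt, upMat_map, Matrix.map_map]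
      refine congrArg₂ (· * ·) (congrArg (upMat r) (funext fun a => ?_)) (Matrix.ext fun i j => ?_)
      · exact (MvPolynomial.aeval_X v a).symm
      · exact ((MvPolynomial.aeval v).commutes (mat x' i j)).symm
    rw [hcomp, AlgHom.comp_apply, MvPolynomial.aeval_eq_eval]
  -- homogeneity
  have hhom : ∀ {f : SLn n k} {m : ℤ}, f ∈ W m → wscale (upWt r) (pu f) = single m (pu f) := fun hf =>
    lt_upFun r hr q hlam (hWmem hf).1 (hWmem hf).2
  have hdeg : ∀ {f : SLn n k} {m : ℤ}, f ∈ W m → ∀ d, (pu f).coeff d ≠ 0 → ((Finsupp.weight (upWt r) d : ℕ) : ℤ) = m :=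
    fun hf d hd => weight_eq_of_wscale _ (hhom hf) hd
  have hconst : ∀ f, MvPolynomial.coeff 0 (pu f) = x' f := fun f => by
    rw [← MvPolynomial.constantCoeff_eq, ← MvPolynomial.eval_zero, ← hval]
    congr 1
    refine point_ext ?_
    rw [mat_pmul, mat_upPt, upMat_zero, Matrix.one_mul]
  -- agreement below a weight
  let Agree : ℕ → (Up r → k) → Prop := fun N v =>
    ∀ m : ℤ, m < N → ∀ f ∈ W m, pmul (upPt r v) x' f = x₀ f
  have hagree1 : ∀ v, Agree 1 v := fun v m hm f hf => by
    obtain ⟨hfi, hwt⟩ := hWmem hf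
    rw [hval]
    rcases lt_trichotomy m 0 with h | h | h
    · have hzero : pu f = 0 := MvPolynomial.ext _ _ fun d => by
        rw [MvPolynomial.coeff_zero]
        by_contra hd
        have := hdeg hf d hd
        omega
      rw [hzero, map_zero, ← hx₀ f hfi m h, hwt.wpart_eq, if_pos rfl]
    · subst h
      have hC : pu f = MvPolynomial.C (x' f) := MvPolynomial.ext _ _ fun d => by
        rw [MvPolynomial.coeff_C]
        split_ifs with hd
        · rw [← hd, hconst]
        · by_contra hne
          have := hdeg hf d hne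
          have : Finsupp.weight (upWt r) d = 0 := by omega
          refine hd (Finsupp.ext fun a => ?_).symm
          by_contra ha
          rw [Finsupp.weight_apply] at this
          have h1 := (Finset.sum_eq_zero_iff.1 this) a (Finsupp.mem_support_iff.2 ha)
          have := one_le_upWt r a
          simp only [smul_eq_mul, mul_eq_zero] at h1
          simp only [Finsupp.coe_zero, Pi.zero_apply] at ha
          omega
      rw [hC, MvPolynomial.eval_C, hx' f hfi, hwt.wpart_eq, if_pos rfl]
    · omega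
  have hsq : ∀ (N : ℕ) (v : Up r → k), 1 ≤ N → Agree N v → ∀ g : rInv q,
      g ∈ RingHom.ker (x'.comp (rInv q).val) ^ 2 →
        x₀ (wpart r hr g (N : ℤ)) = pmul (upPt r v) x' (wpart r hr g (N : ℤ)) := fun N v _ hA g hg =>
    wpart_eq_of_mem_sq r hr q hx₀ hx' (fun m hm f hf hw => hagree1 v m (by exact_mod_cast hm) f ⟨hf, hw⟩)
      (fun m hm f hf hw => hA m hm f ⟨hf, hw⟩) hg
  -- linear part
  have hstep : ∀ (N : ℕ) (v : Up r → k), 1 ≤ N → Agree N v →
      ∃ ξ : Up r → k, (∀ a, upWt r a ≠ N → ξ a = 0) ∧ Agree (N + 1) (v + ξ) := by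
    intro N v hN hA
    let I := {a : Up r // upWt r a = N}
    let L : I → W N →ₗ[k] k := fun a =>
      (MvPolynomial.lcoeff k (Finsupp.single a.1 1)) ∘ₗ pu.toLinearMap ∘ₗ (W N).subtype
    let δ : W N →ₗ[k] k := (x₀.toLinearMap - (pmul (upPt r v) x').toLinearMap) ∘ₗ (W N).subtype
    have hker : ⨅ a, LinearMap.ker (L a) ≤ LinearMap.ker δ := by
      rintro ⟨f, hf⟩ hL
      simp only [Submodule.mem_iInf, LinearMap.mem_ker] at hL
      obtain ⟨hfi, hwt⟩ := hWmem hf
      show x₀ f - pmul (upPt r v) x' f = 0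
      have hx'f : x' f = 0 := by
        rw [hx' f hfi, hwt.wpart_eq, if_neg (by omega), map_zero]
      suffices hs : (f : SLn n k) ∈ RingHom.ker x' ^ 2 by
        have := hsq N v hN hA ⟨f, hfi⟩ (mem_sq_of_mem_sq q hq hG x' (f := ⟨f, hfi⟩) hs)
        rw [hwt.wpart_eq, if_pos rfl] at this
        rw [this, sub_self]
      exact mem_sq_of_linear_part r hr q hlam hN hfi hwt hx'f fun a ha => hL ⟨a, ha⟩
    obtain ⟨ξ, hξ⟩ := (Submodule.mem_span_range_iff_exists_fun k).1 (mem_span_of_iInf_ker_le_ker hker)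
    refine ⟨fun a => if h : upWt r a = N then ξ ⟨a, h⟩ else 0, fun a ha => dif_neg ha, fun m hm f hf => ?_⟩
    rw [hval]
    rcases lt_or_ge m 1 with hm1 | hm1
    · have := hagree1 (v + fun a => if h : upWt r a = N then ξ ⟨a, h⟩ else 0) m hm1 f hf
      rwa [hval] at this
    · obtain ⟨m', rfl⟩ : ∃ m' : ℕ, m = m' := ⟨m.toNat, by omega⟩
      rw [eval_add_of_homogeneous (upWt r) (one_le_upWt r) (m := m') (fun d hd => by exact_mod_cast hdeg hf d hd)
        (l := N) (by omega) v _ (fun a ha => dif_neg ha), ← hval]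
      split_ifs with hmN
      · subst hmN
        have h := DFunLike.congr_fun hξ (⟨f, hf⟩ : W m')
        simp only [LinearMap.coe_sum, Finset.sum_apply, LinearMap.smul_apply, L, δ, LinearMap.comp_apply,
          LinearMap.sub_apply, Submodule.subtype_apply, smul_eq_mul] at h
        rw [← eq_sub_iff_add_eq']
        refine Eq.trans ?_ h
        rw [← Finset.sum_filter_add_sum_filter_not Finset.univ (fun a : Up r => upWt r a = m'),
          Finset.sum_eq_zero (s := Finset.univ.filter fun a : Up r => ¬ upWt r a = m') (fun a ha => by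
            rw [dif_neg (Finset.mem_filter.1 ha).2, zero_mul]), add_zero,
          Finset.sum_subtype (Finset.univ.filter fun a : Up r => upWt r a = m') (p := fun a => upWt r a = m') (by simp)]
        refine Finset.sum_congr rfl fun a _ => ?_
        rw [dif_pos a.2]
        rfl
      · rw [add_zero]
        exact hA m' (by omega) f hf
  let Nmax : ℕ := Finset.univ.sup (upWt r)
  have hex : ∀ N : ℕ, ∃ v, Agree (N + 1) v := fun N => by
    induction N with
    | zero => exact ⟨0, hagree1 0⟩
    | succ N ih =>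
      obtain ⟨v, hv⟩ := ih
      obtain ⟨ξ, -, hξ⟩ := hstep (N + 1) v (by omega) hv
      exact ⟨_, hξ⟩
  obtain ⟨v, hv⟩ := hex Nmax
  have hall : ∀ N : ℕ, Agree (Nmax + 1 + N) v := fun N => by
    induction N with
    | zero => exact hv
    | succ N ih =>
      obtain ⟨ξ, h1, h2⟩ := hstep _ v (by omega) ih
      rw [show v + ξ = v from funext fun a => by
        have := Finset.le_sup (f := upWt r) (Finset.mem_univ a)
        rw [Pi.add_apply, h1 a (by omega), add_zero]] at h2
      exact h2
  refine ⟨v, fun f hf => ?_⟩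
  rw [← sum_wpart r hr f, map_sum, map_sum]
  exact Finset.sum_congr rfl fun m _ => hall m.toNat m (by omega) _ ⟨wpart_mem_rInv r hr q hf m, isWt_wpart r hr f m⟩

include hG hq in
/-- A point with a limiting coset factors through a one-parameter subgroup of the subgroup. -/
theorem exists_decomposition (g₀ : SLn n k →ₐ[k] k)
    (hg : ∀ f ∈ rInv q, ∀ m < 0, (torOrbit g₀ r hr (HopfAlgebra.antipodeAlgHom k (SLn n k) f)).coeff m = 0) :
    ∃ (lam : A →ₐc[k] k[T;T⁻¹]) (ψ : SLn n k →ₐ[k] Polynomial k),
      torOrbit g₀ r hr = pmul ((lam : A →ₐ[k] k[T;T⁻¹]).comp (qa q)) ((Polynomial.toLaurentAlg (R := k)).comp ψ) ∧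
        (r ≠ 0 → ¬ SGA3t2b.IsTrivialBialgHom lam) := by
  classical
  have hlt : pinv (torOrbit g₀ r hr) = lt r hr (pinv g₀) := by
    refine point_ext ?_
    rw [pinv_mat, mat_torOrbit, mat_lt, Matrix.mul_inv_rev, pinv_mat]
    congr 1
    · refine Matrix.inv_eq_left_inv ?_
      rw [Matrix.diagonal_mul_diagonal, ← Matrix.diagonal_one]
      congr 1
      funext i
      rw [LaurentPolynomial.T, single_mul_single, neg_add_cancel, one_mul, one_def]
    · refine (Matrix.inv_eq_left_inv ?_).trans ?_ (b := ((mat g₀)⁻¹).map (algebraMap k k[T;T⁻¹]))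
      · rw [← Matrix.map_mul, Matrix.nonsing_inv_mul _ (by rw [det_mat]; exact isUnit_one), Matrix.map_one _ (map_zero _) (map_one _)]
      · refine Matrix.ext fun i j => ?_
        simp only [Matrix.map_apply, LaurentPolynomial.algebraMap_apply, Algebra.algebraMap_self, RingHom.id_apply]
        rfl
  have hx₀ : ∀ f ∈ rInv q, ∀ m < 0, pinv g₀ (wpart r hr f m) = 0 := fun f hf m hm => by
    rw [← coeff_lt, ← hlt]
    exact hg f hf m hm
  obtain ⟨ψc, hψc⟩ := exists_polyLift ((lt r hr (pinv g₀)).comp (rInv q).val) fun f m hm => by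
    rw [AlgHom.comp_apply, coeff_lt]
    exact hx₀ _ f.2 m hm
  obtain ⟨x', hx'⟩ := exists_point_lift q hG ((Polynomial.aeval (0 : k)).comp ψc)
  have hlim : ∀ f ∈ rInv q, x' f = pinv g₀ (wpart r hr f 0) := fun f hf => by
    rw [hx' ⟨f, hf⟩, ← coeff_lt, AlgHom.comp_apply, ← Polynomial.coeff_zero_eq_aeval_zero]
    rw [show lt r hr (pinv g₀) f = ((Polynomial.toLaurentAlg (R := k)).comp ψc) ⟨f, hf⟩ by rw [hψc]; rfl,
      AlgHom.comp_apply]
    exact (coeff_toLaurent_zero (k := k) _).symm
  obtain ⟨v, hv⟩ := exists_unipotent r hr q hG hq hx₀ hlim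
  obtain ⟨h, hh⟩ := exists_of_forall_eq q hq hG _ _ hv
  let x := pmul x' (h.comp (qa q))
  have hxfix : ∀ f ∈ rInv q, ∀ m, m ≠ 0 → x (wpart r hr f m) = 0 := fun f hf m hm => by
    rw [rInv_apply_pmul q (wpart_mem_rInv r hr q hf m), hlim _ (wpart_mem_rInv r hr q hf m),
      (isWt_wpart r hr f m).wpart_eq, if_neg hm, map_zero]
  obtain ⟨lam, hlam⟩ := exists_lam r hr q hG hq hxfix
  let vt : Up r → Polynomial k := fun a => Polynomial.C (v a) * Polynomial.X ^ upWt r a
  let ψ := pmul (pinv (cst (R := Polynomial k) x)) (pinv (upPt (k := k) r vt))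
  refine ⟨lam, ψ, ?_, fun hr0 htriv => ?_⟩
  · have hg0 : mat (pinv g₀) = upMat r v * mat x := by
      rw [hh, mat_pmul, mat_pmul, mat_upPt, Matrix.mul_assoc, ← mat_pmul]
    let L := k[T;T⁻¹]
    let D : Matrix (Fin n) (Fin n) L := Matrix.diagonal fun i => LaurentPolynomial.T (r i)
    let D' : Matrix (Fin n) (Fin n) L := Matrix.diagonal fun i => LaurentPolynomial.T (-r i)
    have hD1 : D' * D = 1 := by
      rw [Matrix.diagonal_mul_diagonal, ← Matrix.diagonal_one]
      congr 1; funext i; rw [← LaurentPolynomial.T_add, neg_add_cancel, LaurentPolynomial.T_zero]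
    have hD2 : D * D' = 1 := mul_eq_one_comm.1 hD1
    let X := (mat x).map (algebraMap k L)
    let X' := ((mat x)⁻¹).map (algebraMap k L)
    have hX1 : X' * X = 1 := by
      rw [← Matrix.map_mul, Matrix.nonsing_inv_mul _ (by rw [det_mat]; exact isUnit_one), Matrix.map_one _ (map_zero _) (map_one _)]
    let U := (upMat r v).map (algebraMap k L)
    let Ut := (upMat r vt).map (Polynomial.toLaurentAlg (R := k))
    have hUt : Ut = D' * U * D := by
      refine Matrix.ext fun i j => ?_
      rw [Matrix.mul_diagonal, Matrix.diagonal_mul]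
      simp only [Ut, U, Matrix.map_apply, upMat, Matrix.add_apply, Matrix.of_apply, map_add, mul_add, add_mul]
      congr 1
      · by_cases hij : i = j
        · subst hij
          rw [Matrix.one_apply_eq, Matrix.one_apply_eq, map_one, map_one, mul_one, ← LaurentPolynomial.T_add, neg_add_cancel,
            LaurentPolynomial.T_zero]
        · simp [Matrix.one_apply_ne hij]
      · by_cases hij : r i < r j
        · rw [dif_pos hij, dif_pos hij]
          show Polynomial.toLaurent (Polynomial.C (v _) * Polynomial.X ^ upWt r _) = _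
          rw [Polynomial.toLaurent_C_mul_X_pow, upWt_cast, LaurentPolynomial.algebraMap_apply, Algebra.algebraMap_self,
            RingHom.id_apply, mul_comm (LaurentPolynomial.T (-r i)), mul_assoc, ← LaurentPolynomial.T_add]
          congr 2
          ring
        · simp [dif_neg hij]
    have hψ : mat ((Polynomial.toLaurentAlg (R := k)).comp ψ) = X' * Ut⁻¹ := by
      rw [mat_comp, mat_pmul, Matrix.map_mul]
      congr 1
      · rw [← mat_comp, show (Polynomial.toLaurentAlg (R := k)).comp (pinv (cst (R := Polynomial k) x)) = pinv (cst x) by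
          refine AlgHom.ext fun a => ?_
          exact (Polynomial.toLaurentAlg (R := k)).commutes _, pinv_mat]
        refine Matrix.inv_eq_left_inv ?_
        exact hX1
      · rw [← mat_comp, show (Polynomial.toLaurentAlg (R := k)).comp (pinv (upPt r vt)) =
          pinv ((Polynomial.toLaurentAlg (R := k)).comp (upPt r vt)) from rfl, pinv_mat, mat_comp, mat_upPt]
    refine point_ext ?_
    rw [mat_pmul, hlam, hψ, mat_torOrbit, show (mat g₀).map (algebraMap k L) = X' * U⁻¹ by
      have hU : IsUnit U.det := by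
        rw [show U = (algebraMap k L).mapMatrix (upMat r v) from rfl, ← RingHom.map_det, det_upMat, map_one]
        exact isUnit_one
      have e : mat g₀ = (mat x)⁻¹ * (upMat r v)⁻¹ := by
        rw [← Matrix.mul_inv_rev, ← hg0, ← pinv_mat, pinv_pinv]
      rw [e, Matrix.map_mul]
      congr 1
      symm
      refine Matrix.inv_eq_left_inv ?_
      rw [← Matrix.map_mul, Matrix.nonsing_inv_mul _ (by rw [det_upMat]; exact isUnit_one), Matrix.map_one _ (map_zero _) (map_one _)]]
    rw [show Ut⁻¹ = D' * U⁻¹ * D by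
      rw [hUt, Matrix.mul_inv_rev, Matrix.mul_inv_rev, Matrix.inv_eq_left_inv hD1, Matrix.inv_eq_left_inv hD2]
      simp only [Matrix.mul_assoc]]
    show X' * U⁻¹ * D = X' * D * X * (X' * (D' * U⁻¹ * D))
    simp only [Matrix.mul_assoc]
    rw [← Matrix.mul_assoc X X', mul_eq_one_comm.1 hX1, Matrix.one_mul, ← Matrix.mul_assoc D D', hD2, Matrix.one_mul]
  · refine hr0 (funext fun i => ?_)
    have e : mat ((lam : A →ₐ[k] k[T;T⁻¹]).comp (qa q)) = 1 := by
      refine Matrix.ext fun i j => ?_
      rw [mat_comp, Matrix.map_apply]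
      show lam (qa q (SLn.X i j)) = _
      rw [show lam (qa q (SLn.X i j)) = algebraMap k _ (CoalgebraStruct.counit (R := k) (qa q (SLn.X i j))) from htriv _]
      have : CoalgebraStruct.counit (R := k) (qa q (SLn.X i j)) = (1 : Matrix (Fin n) (Fin n) k) i j :=
        (CoalgHomClass.counit_comp_apply q _).trans (congrFun (congrFun (isCorep_genSL (k := k) (N := n)).map_counit i) j)
      rw [this]
      simp [Matrix.one_apply, apply_ite (algebraMap k k[T;T⁻¹]), one_def]
    rw [hlam] at e
    have hx1 : IsUnit (mat x).det := by rw [det_mat]; exact isUnit_one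
    have e2 := congrArg (fun M => (mat x).map (algebraMap k k[T;T⁻¹]) * M * ((mat x)⁻¹).map (algebraMap k k[T;T⁻¹])) e
    simp only [Matrix.mul_one, Matrix.mul_assoc] at e2
    rw [← Matrix.map_mul, Matrix.mul_nonsing_inv _ hx1, Matrix.map_one _ (map_zero _) (map_one _)] at e2
    simp only [← Matrix.mul_assoc] at e2
    rw [← Matrix.map_mul, Matrix.mul_nonsing_inv _ hx1, Matrix.map_one _ (map_zero _) (map_one _), Matrix.one_mul,
      Matrix.mul_one] at e2
    have e3 := congrArg (fun M : Matrix (Fin n) (Fin n) k[T;T⁻¹] => (M i i).coeff 0) e2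
    simp only [Matrix.diagonal_apply_eq, Matrix.one_apply_eq, LaurentPolynomial.T_apply, one_def, coeff_single,
      Finsupp.single_eq_same] at e3
    by_contra h0
    rw [if_neg (by simpa using h0)] at e3
    exact zero_ne_one e3

end Groth.Agent.HMCrit
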