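import Groth.Agent.HMCrit.Points
import Groth.Agent.GLForms.Smith
import Groth.Agent.GLForms.Criterion
import Groth.Agent.S11804

/-!
# From a non-integral point of `SL_N` to a one-parameter subgroup

`K` is a field with a valuation ring `V`, `φ` a point of `SL_N` over `K` which is not integral, and `Fs` a finite
set of functions with `F(φψ)` integral for every integral `ψ`.  Then there are a rational point `g` and a nonzero
diagonal one-parameter subgroup `τ` with `F(g τ(t))` free of negative powers of `t`.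
-/

set_option autoImplicit false
set_option linter.unusedSectionVars false

universe u v w
open TensorProduct CoordGrp WithConv Groth.Agent.GLForms AddMonoidAlgebra
open scoped LaurentPolynomial
noncomputable section

namespace Groth.Agent.HMCrit

variable (k : Type u) [Field k] {n : ℕ}

/-- The characters of the diagonal torus. -/
def expo (i : Fin (n + 1)) : Fin n → ℤ := Fin.lastCases (fun _ => -1) (fun j => Pi.single j 1) i

lemma sum_expo : ∑ i : Fin (n + 1), expo i = 0 := by
  rw [Fin.sum_univ_castSucc]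
  funext l
  simp [expo, Finset.sum_apply, Pi.single_apply]

/-- Pairing of a character with a weight vector. -/
def pair (r : Fin n → ℤ) : (Fin n → ℤ) →+ ℤ :=
  AddMonoidHom.mk' (fun l => ∑ i, l i * r i) (fun a b => by simp [add_mul, Finset.sum_add_distrib])

/-- The weights of all coordinates. -/
def fullWt (r : Fin n → ℤ) (i : Fin (n + 1)) : ℤ := pair r (expo i)

lemma sum_fullWt (r : Fin n → ℤ) : ∑ i, fullWt r i = 0 := by
  simp only [fullWt, ← map_sum, sum_expo, map_zero]

lemma fullWt_castSucc (r : Fin n → ℤ) (i : Fin n) : fullWt r i.castSucc = r i := by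
  simp [fullWt, expo, pair, Pi.single_apply]

section General
variable (R : Type v) [CommRing R] [Algebra k R]

lemma det_deltaMat : (Matrix.diagonal fun i : Fin (n + 1) => (single (expo i) 1 : AddMonoidAlgebra R (Fin n → ℤ))).det = 1 := by
  classical
  rw [Matrix.det_diagonal]
  have h : ∀ s : Finset (Fin (n + 1)),
      ∏ i ∈ s, (single (expo i) 1 : AddMonoidAlgebra R (Fin n → ℤ)) = single (∑ i ∈ s, expo i) 1 := fun s => by
    induction s using Finset.induction_on with
    | empty => simp [one_def]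
    | insert a s ha ih => rw [Finset.prod_insert ha, Finset.sum_insert ha, ih, single_mul_single, one_mul]
  rw [h, sum_expo, one_def]

/-- The universal point of the diagonal torus. -/
def delta : SLn (n + 1) k →ₐ[k] AddMonoidAlgebra R (Fin n → ℤ) :=
  SLn.pt (n + 1) k _ (det_deltaMat R)

/-- The right translate of a point by the universal point of the torus. -/
def shift (f : SLn (n + 1) k →ₐ[k] R) : SLn (n + 1) k →ₐ[k] AddMonoidAlgebra R (Fin n → ℤ) :=
  pmul (singleZeroAlgHom.comp f) (delta k R)

lemma mat_shift (f : SLn (n + 1) k →ₐ[k] R) :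
    mat (shift k R f) = (mat f).map (singleZeroAlgHom (R := k)) * Matrix.diagonal fun i => single (expo i) 1 := by
  rw [shift, mat_pmul, mat_comp, delta, mat_pt]

variable {R}

lemma shift_comp {R' : Type v} [CommRing R'] [Algebra k R'] (g : R →ₐ[k] R') (f : SLn (n + 1) k →ₐ[k] R) :
    (mapAlgHom (Fin n → ℤ) g).comp (shift k R f) = shift k R' (g.comp f) := by
  refine point_ext ?_
  rw [mat_comp, mat_shift, mat_shift, Matrix.map_mul, Matrix.map_map, mat_comp, Matrix.map_map,
    Matrix.diagonal_map (map_zero _)]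
  congr 1
  · ext i j; simp
  · congr 1; funext i; simp

end General

/-- The coefficient functions of the right translates by the torus. -/
def torCoeff (F : SLn (n + 1) k) (l : Fin n → ℤ) : SLn (n + 1) k :=
  (shift k (SLn (n + 1) k) (AlgHom.id k _) F).coeff l

lemma coeff_shift {R : Type u} [CommRing R] [Algebra k R] (f : SLn (n + 1) k →ₐ[k] R) (F : SLn (n + 1) k)
    (l : Fin n → ℤ) : (shift k R f F).coeff l = f (torCoeff k F l) := by
  rw [← f.comp_id, ← shift_comp, AlgHom.comp_apply]
  exact coeff_mapAlgHom ..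

lemma isCorep_torus {N : ℕ} (r : Fin N → ℤ) :
    Comod.IsCorep (k := k) (Matrix.diagonal fun i => (LaurentPolynomial.T (r i) : k[T;T⁻¹])) := by
  constructor
  · rw [Matrix.diagonal_map (map_zero _), Matrix.diagonal_map (map_zero _), Matrix.diagonal_map (map_zero _),
      Matrix.diagonal_mul_diagonal]
    congr 1
    funext i
    simp [Algebra.TensorProduct.tmul_mul_tmul]
  · rw [Matrix.diagonal_map (map_zero _)]
    ext i j
    by_cases h : i = j
    · subst h; simp [LaurentPolynomial.counit_T]
    · simp [h]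

lemma det_torusMat {N : ℕ} (r : Fin N → ℤ) (hr : ∑ i, r i = 0) :
    (Matrix.diagonal fun i => (LaurentPolynomial.T (r i) : k[T;T⁻¹])).det = 1 := by
  classical
  rw [Matrix.det_diagonal]
  have h : ∀ s : Finset (Fin N),
      ∏ i ∈ s, (LaurentPolynomial.T (r i) : k[T;T⁻¹]) = LaurentPolynomial.T (∑ i ∈ s, r i) := fun s => by
    induction s using Finset.induction_on with
    | empty => simp
    | insert a s ha ih => rw [Finset.prod_insert ha, Finset.sum_insert ha, ih, ← LaurentPolynomial.T_add]
  rw [h, hr, LaurentPolynomial.T_zero]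

/-- A diagonal one-parameter subgroup of `SL_N`. -/
def tau {N : ℕ} (r : Fin N → ℤ) (hr : ∑ i, r i = 0) : SLn N k →ₐc[k] k[T;T⁻¹] :=
  ptBialg _ (det_torusMat k r hr) (isCorep_torus k r)

lemma mat_tau {N : ℕ} (r : Fin N → ℤ) (hr : ∑ i, r i = 0) :
    mat ((tau k r hr : SLn N k →ₐc[k] k[T;T⁻¹]) : SLn N k →ₐ[k] k[T;T⁻¹]) =
      Matrix.diagonal fun i => LaurentPolynomial.T (r i) := by
  refine Matrix.ext fun i j => ?_
  exact ptBialg_X _ (det_torusMat k r hr) (isCorep_torus k r) i j

variable {k}

/-- The orbit `t ↦ g·τ(t)`. -/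
def torOrbit {N : ℕ} (g : SLn N k →ₐ[k] k) (r : Fin N → ℤ) (hr : ∑ i, r i = 0) : SLn N k →ₐ[k] k[T;T⁻¹] :=
  pmul ((Algebra.ofId k _).comp g) ((tau k r hr : SLn N k →ₐc[k] k[T;T⁻¹]) : SLn N k →ₐ[k] k[T;T⁻¹])

lemma mat_torOrbit {N : ℕ} (g : SLn N k →ₐ[k] k) (r : Fin N → ℤ) (hr : ∑ i, r i = 0) :
    mat (torOrbit g r hr) = (mat g).map (algebraMap k k[T;T⁻¹]) * Matrix.diagonal fun i => LaurentPolynomial.T (r i) := by
  rw [torOrbit, mat_pmul, mat_comp, mat_tau]
  rfl

lemma torOrbit_eq (g : SLn (n + 1) k →ₐ[k] k) (r : Fin n → ℤ) :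
    torOrbit g (fullWt r) (sum_fullWt r) = (mapDomainAlgHom k k (pair r)).comp (shift k k g) := by
  refine point_ext ?_
  rw [mat_torOrbit, mat_comp, mat_shift, Matrix.map_mul, Matrix.map_map, Matrix.diagonal_map (map_zero _)]
  congr 1
  · refine Matrix.ext fun i j => ?_
    simp only [Matrix.map_apply, Function.comp_apply]
    rw [LaurentPolynomial.algebraMap_apply, Algebra.algebraMap_self, RingHom.id_apply]
    exact ((congrArg (mapDomainAlgHom k k (pair r)) rfl).trans (AddMonoidAlgebra.mapDomain_single.trans (by rw [map_zero]; rfl))).symm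
  · congr 1; funext i; simp [fullWt]

lemma torOrbit_coeff_eq_zero (g : SLn (n + 1) k →ₐ[k] k) (r : Fin n → ℤ) (F : SLn (n + 1) k) (m : ℤ)
    (h : ∀ l, pair r l = m → g (torCoeff k F l) = 0) :
    (torOrbit g (fullWt r) (sum_fullWt r) F).coeff m = 0 := by
  classical
  rw [torOrbit_eq, AlgHom.comp_apply]
  show Finsupp.mapDomain (pair r) (shift k k g F).coeff m = 0
  by_contra hne
  obtain ⟨l, hl, hlm⟩ := Finset.mem_image.1 (Finsupp.mapDomain_support (Finsupp.mem_support_iff.2 hne))
  exact Finsupp.mem_support_iff.1 hl ((coeff_shift k g F l).trans (h l hlm))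

section Valuation

variable {K : Type u} [Field K] [Algebra k K] (V : ValuationSubring K)

/-- A function stays integral on all integral right translates of `φ`. -/
def Int' (hV : ∀ c, algebraMap k K c ∈ V) (φ : SLn (n + 1) k →ₐ[k] K) (F : SLn (n + 1) k) : Prop :=
  letI : Algebra k V := scalarAlg V hV
  ∀ (ψ : SLn (n + 1) k →ₐ[k] AddMonoidAlgebra V (Fin n → ℤ)) (l : Fin n → ℤ),
    V.valuation ((pmul (singleZeroAlgHom.comp φ) ((mapAlgHom _ (⟨V.subtype, fun _ => rfl⟩ : V →ₐ[k] K)).comp ψ) F).coeff l) ≤ 1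

/-- A function becomes infinitesimal on all integral right translates of `φ`. -/
def Null' (hV : ∀ c, algebraMap k K c ∈ V) (φ : SLn (n + 1) k →ₐ[k] K) (F : SLn (n + 1) k) : Prop :=
  letI : Algebra k V := scalarAlg V hV
  ∀ (ψ : SLn (n + 1) k →ₐ[k] AddMonoidAlgebra V (Fin n → ℤ)) (l : Fin n → ℤ),
    V.valuation ((pmul (singleZeroAlgHom.comp φ) ((mapAlgHom _ (⟨V.subtype, fun _ => rfl⟩ : V →ₐ[k] K)).comp ψ) F).coeff l) < 1

/-- Diagonalisation over a valuation ring inside `SL_N`. -/
lemma exists_smith_one (M : Matrix (Fin (n + 1)) (Fin (n + 1)) K) (hM : M.det = 1) :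
    ∃ U W : Matrix (Fin (n + 1)) (Fin (n + 1)) V, U.det = 1 ∧ W.det = 1 ∧ ∃ e : Fin (n + 1) → K,
      ∏ i, e i = 1 ∧ M = U.map V.subtype * Matrix.diagonal e * W.map V.subtype := by
  classical
  obtain ⟨U, W, hU, hW, e, he⟩ := exists_smith V (n + 1) M (by rw [hM]; exact one_ne_zero)
  obtain ⟨a, ha⟩ := (Matrix.isUnit_iff_isUnit_det U).1 hU
  obtain ⟨b, hb⟩ := (Matrix.isUnit_iff_isUnit_det W).1 hW
  let d : V → Fin (n + 1) → V := fun c => Function.update 1 0 c
  have hd : ∀ c : V, (Matrix.diagonal (d c)).det = c := fun c => by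
    rw [Matrix.det_diagonal]
    simp [d, Finset.prod_update_of_mem]
  let e' : Fin (n + 1) → K := fun i => (d a i : K) * e i * (d b i : K)
  refine ⟨U * Matrix.diagonal (d ↑a⁻¹), Matrix.diagonal (d ↑b⁻¹) * W, ?_, ?_, e', ?_, ?_⟩
  · rw [Matrix.det_mul, hd, ← ha, Units.mul_inv]
  · rw [Matrix.det_mul, hd, ← hb, Units.inv_mul]
  · have h := hM
    rw [he, Matrix.det_mul, Matrix.det_mul, Matrix.det_diagonal,
      show (U.map V.subtype).det = (U.det : K) from (V.subtype.map_det U).symm,
      show (W.map V.subtype).det = (W.det : K) from (V.subtype.map_det W).symm, ← ha, ← hb] at h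
    simp only [e', Finset.prod_mul_distrib, d]
    rw [← h]
    congr 1
    · congr 1
      simp [Function.update_apply, apply_ite, Finset.prod_ite_eq']
    · simp [Function.update_apply, apply_ite, Finset.prod_ite_eq']
  · rw [he, Matrix.map_mul, Matrix.map_mul, Matrix.diagonal_map rfl, Matrix.diagonal_map rfl]
    have h1 : ∀ (c : Vˣ), (fun i => ((d ↑c⁻¹ i : V) : K)) * (fun i => ((d ↑c i : V) : K)) = 1 := fun c => by
      funext i
      rw [Pi.mul_apply]
      by_cases hi : i = 0
      · subst hi
        simp only [d, Function.update_self]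
        rw [← MulMemClass.coe_mul, Units.inv_mul]; rfl
      · simp [d, hi]
    simp only [Matrix.mul_assoc, ← Matrix.mul_assoc (Matrix.diagonal _) (Matrix.diagonal _), Matrix.diagonal_mul_diagonal]
    congr 3
    funext i
    show e i = _
    have ha' := congrFun (h1 a) i
    have hb' := congrFun (h1 b) i
    simp only [Pi.mul_apply, Pi.one_apply] at ha' hb'
    simp only [e', Function.comp_apply, ValuationSubring.subtype_apply]
    linear_combination -(e i) * ((d (↑b⁻¹) i : K) * (d (↑b) i : K)) * ha' - (e i) * hb'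

theorem exists_weights [IsAlgClosed k] (hV : ∀ c, algebraMap k K c ∈ V) (φ : SLn (n + 1) k →ₐ[k] K)
    {i₁ j₁ : Fin (n + 1)} (hni : φ (SLn.X i₁ j₁) ∉ V) (Fs : Finset (SLn (n + 1) k)) :
    ∃ (g : SLn (n + 1) k →ₐ[k] k) (r : Fin (n + 1) → ℤ) (hr : ∑ i, r i = 0), r ≠ 0 ∧
      ∀ F ∈ Fs, (Int' V hV φ F → ∀ m < 0, (torOrbit g r hr F).coeff m = 0) ∧
        (Null' V hV φ F → ∀ m ≤ 0, (torOrbit g r hr F).coeff m = 0) := by
  classical
  letI : Algebra k V := scalarAlg V hV
  let ι : V →ₐ[k] K := ⟨V.subtype, fun _ => rfl⟩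
  let res := IsLocalRing.residue V
  letI : Algebra k (IsLocalRing.ResidueField V) := (res.comp (algebraMap k V)).toAlgebra
  let R₀ : V →ₐ[k] IsLocalRing.ResidueField V := ⟨res, fun _ => rfl⟩
  obtain ⟨U, W, hU, hW, e, he1, hM⟩ := exists_smith_one V (mat φ) (det_mat φ)
  let uV := SLn.pt (n + 1) k U hU
  have he : ∀ i, e i ≠ 0 := fun i h => by
    rw [Finset.prod_eq_zero (Finset.mem_univ i) h] at he1
    exact zero_ne_one he1
  let eu : Fin (n + 1) → Kˣ := fun i => Units.mk0 (e i) (he i)
  let E : Multiplicative (Fin n → ℤ) →* K :=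
    { toFun := fun l => ((∏ i : Fin n, eu i.castSucc ^ (Multiplicative.toAdd l i) : Kˣ) : K)
      map_one' := by simp
      map_mul' := fun a b => by
        simp only [toAdd_mul, Pi.add_apply, _root_.zpow_add, Finset.prod_mul_distrib, Units.val_mul] }
  let S : Multiplicative (Fin n → ℤ) →* AddMonoidAlgebra K (Fin n → ℤ) :=
    { toFun := fun l => single (Multiplicative.toAdd l) (E l)
      map_one' := by simp [one_def]
      map_mul' := fun a b => by simp [single_mul_single] }
  let scale := (AddMonoidAlgebra.lift K (AddMonoidAlgebra K (Fin n → ℤ)) (Fin n → ℤ) S).restrictScalars k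
  have hscale : ∀ l c, scale (single l c) = single l (c * E (Multiplicative.ofAdd l)) := fun l c => by
    simp only [scale, AlgHom.restrictScalars_apply, AddMonoidAlgebra.lift_single]
    simp [S, smul_single']
  have hscale' : ∀ x l, (scale x).coeff l = x.coeff l * E (Multiplicative.ofAdd l) := fun x => by
    induction x using AddMonoidAlgebra.induction_linear with
    | zero => intro l; simp
    | add x y hx hy => intro l; simp [map_add, hx, hy, add_mul]
    | single l' c =>
      intro l
      rw [hscale, coeff_single, coeff_single]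
      by_cases hl : l' = l
      · subst hl; simp
      · simp [hl]
  have hexpo : ∀ i, E (Multiplicative.ofAdd (expo i)) = e i := by
    intro i
    induction i using Fin.lastCases with
    | cast j =>
      show ((∏ i : Fin n, eu i.castSucc ^ (expo j.castSucc i) : Kˣ) : K) = _
      rw [Finset.prod_eq_single j (fun b _ hb => by simp [expo, hb]) (by simp)]
      simp [expo, eu]
    | last =>
      show ((∏ i : Fin n, eu i.castSucc ^ (expo (Fin.last n) i) : Kˣ) : K) = _
      simp only [expo, Fin.lastCases_last, Units.coe_prod, Units.val_zpow_eq_zpow_val, _root_.zpow_neg, _root_.zpow_one,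
        Finset.prod_inv_distrib]
      rw [Units.val_inv_eq_inv_val, Units.coe_prod]
      refine inv_eq_of_mul_eq_one_right (G := K) ?_
      rw [← he1, Fin.prod_univ_castSucc]
      rfl
  -- the key identity
  have key : ∃ ψ : SLn (n + 1) k →ₐ[k] AddMonoidAlgebra V (Fin n → ℤ),
      pmul (singleZeroAlgHom.comp φ) ((mapAlgHom _ ι).comp ψ) = scale.comp (shift k K (ι.comp uV)) := by
    obtain ⟨W', hW'⟩ := ((Matrix.isUnit_iff_isUnit_det W).2 (hW ▸ isUnit_one)).exists_right_inv
    have hW'd : W'.det = 1 := by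
      have := congrArg Matrix.det hW'
      rwa [Matrix.det_mul, hW, one_mul, Matrix.det_one] at this
    refine ⟨shift k V (SLn.pt (n + 1) k W' hW'd), ?_⟩
    rw [shift_comp]
    refine point_ext ?_
    rw [mat_pmul, mat_shift, mat_comp, mat_comp, mat_comp, mat_shift, mat_comp, mat_pt, mat_pt, Matrix.map_mul (f := scale),
      Matrix.map_map (g := scale), Matrix.diagonal_map (map_zero scale), hM, ← Matrix.mul_assoc, ← Matrix.map_mul, Matrix.mul_assoc,
      show W.map V.subtype * W'.map ι = 1 by
        rw [show W'.map ι = W'.map V.subtype from rfl, ← Matrix.map_mul, hW', Matrix.map_one _ (map_zero _) (map_one _)],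
      Matrix.mul_one, Matrix.map_mul, Matrix.mul_assoc, Matrix.diagonal_map (map_zero _), Matrix.diagonal_mul_diagonal,
      Matrix.map_map]
    congr 1
    · refine Matrix.ext fun i j => ?_
      show single (0 : Fin n → ℤ) _ = scale (single 0 _)
      rw [hscale, ofAdd_zero, map_one, mul_one]
      rfl
    · congr 1
      funext i
      rw [hscale, hexpo, one_mul]
      show single (0 : Fin n → ℤ) (e i) * single (expo i) 1 = _
      rw [single_mul_single, zero_add, mul_one]
  obtain ⟨ψ, hψ⟩ := key
  have hval : ∀ F l, (pmul (singleZeroAlgHom.comp φ) ((mapAlgHom _ ι).comp ψ) F).coeff l =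
      (uV (torCoeff k F l) : K) * E (Multiplicative.ofAdd l) := fun F l => by
    rw [hψ, AlgHom.comp_apply, hscale', coeff_shift]
    rfl
  -- the valuations of the diagonal entries
  let u : Fin n → V.ValueGroupˣ := fun i => Units.mk0 (V.valuation (e i.castSucc)) ((Valuation.ne_zero_iff _).2 (he _))
  let χ : Fin n → Additive V.ValueGroupˣ := fun i => - Additive.ofMul (u i)
  have hχ : ∀ l : Fin n → ℤ, ∑ i, l i • χ i = - Additive.ofMul (∏ i, u i ^ l i) := fun l => by
    simp [χ, ofMul_prod, Finset.sum_neg_distrib]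
  have hvE : ∀ l : Fin n → ℤ, V.valuation (E (Multiplicative.ofAdd l)) = ((∏ i, u i ^ l i : V.ValueGroupˣ) : V.ValueGroup) :=
    fun l => by
      show V.valuation ((∏ i : Fin n, eu i.castSucc ^ l i : Kˣ) : K) = _
      simp only [Units.coe_prod, map_prod, Units.val_zpow_eq_zpow_val, map_zpow₀]
      rfl
  obtain ⟨i₂, hi₂⟩ : ∃ i : Fin n, V.valuation (e i.castSucc) ≠ 1 := by
    by_contra hall
    push Not at hall
    have hlast : V.valuation (e (Fin.last n)) = 1 := by
      have h := congrArg V.valuation he1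
      rw [Fin.prod_univ_castSucc, map_mul, map_prod, Finset.prod_eq_one (fun i _ => hall i), one_mul, map_one] at h
      exact h
    apply hni
    show mat φ i₁ j₁ ∈ V
    rw [hM, Matrix.mul_apply]
    simp only [Matrix.mul_diagonal, Matrix.map_apply]
    refine sum_mem fun l _ => mul_mem (mul_mem (U i₁ l).2 ((V.valuation_le_one_iff _).1 ?_)) (W l j₁).2
    induction l using Fin.lastCases with
    | last => exact hlast.le
    | cast j => exact (hall j).le
  let Φ : Finset (Fin n → ℤ) := Fs.biUnion (fun F => (shift k (SLn (n + 1) k) (AlgHom.id k _) F).coeff.support) ∪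
    {Pi.single i₂ 1}
  obtain ⟨r, hr⟩ := Groth.Agent.S11804.result (Additive V.ValueGroupˣ) n χ Φ
  have hrne : fullWt r ≠ 0 := by
    intro h0
    have h := (hr (Pi.single i₂ 1) (Finset.mem_union_right _ (Finset.mem_singleton_self _))).2.2
      (by rw [Finset.sum_eq_single i₂ (fun j _ hj => by simp [hj]) (by simp), ← fullWt_castSucc r i₂, h0]; simp)
    rw [Finset.sum_eq_single i₂ (fun j _ hj => by simp [hj]) (by simp), Pi.single_eq_same, one_zsmul] at h
    rw [show χ i₂ = - Additive.ofMul (u i₂) from rfl, neg_eq_zero, ofMul_eq_zero] at h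
    exact hi₂ (congrArg Units.val h)
  have hsign : ∀ F ∈ Fs, ∀ l, R₀ (uV (torCoeff k F l)) ≠ 0 →
      (Int' V hV φ F → 0 ≤ pair r l) ∧ (Null' V hV φ F → 0 < pair r l) := by
    intro F hF l hl
    have h1 : V.valuation ((uV (torCoeff k F l) : V) : K) = 1 :=
      (V.valuation_eq_one_iff _).1 (IsLocalRing.notMem_maximalIdeal.1 fun h => hl ((IsLocalRing.residue_eq_zero_iff _).2 h))
    have hlΦ : l ∈ Φ := Finset.mem_union_left _ (Finset.mem_biUnion.2 ⟨F, hF, Finsupp.mem_support_iff.2 fun h => hl (by
      rw [torCoeff, h, map_zero, map_zero])⟩)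
    have hΦ := hr l hlΦ
    rw [hχ] at hΦ
    refine ⟨fun hint => ?_, fun hnull => hΦ.1.1 (neg_pos.2 ?_)⟩
    · have h3 := hint ψ l
      rw [hval, map_mul, h1, one_mul, hvE] at h3
      have h4 : (∏ i, u i ^ l i : V.ValueGroupˣ) ≤ 1 := Units.val_le_val.1 (h3.trans_eq Units.val_one.symm)
      rcases eq_or_lt_of_le h4 with h | h
      · exact (hΦ.2.1 (by rw [h, ofMul_one, neg_zero])).ge
      · exact (hΦ.1.1 (neg_pos.2 h)).le
    · have h3 := hnull ψ l
      rw [hval, map_mul, h1, one_mul, hvE] at h3
      exact (Units.val_lt_val.1 (h3.trans_eq Units.val_one.symm) : (∏ i, u i ^ l i : V.ValueGroupˣ) < 1)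
  let S₀ : Set (SLn (n + 1) k) := {x | ∃ F ∈ Fs, ∃ l, x = torCoeff k F l ∧ R₀ (uV x) = 0}
  obtain ⟨g, hg⟩ := GLForms.exists_point_of_field_point S₀ (R₀.comp uV) fun x hx => by
    obtain ⟨F, -, l, rfl, h⟩ := hx
    exact h
  refine ⟨g, fullWt r, sum_fullWt r, hrne, fun F hF => ⟨fun hint m hm => ?_, fun hnull m hm => ?_⟩⟩
  · refine torOrbit_coeff_eq_zero g r F m fun l hl => hg _ ⟨F, hF, l, rfl, by_contra fun h => ?_⟩
    have := (hsign F hF l h).1 hint
    omega
  · refine torOrbit_coeff_eq_zero g r F m fun l hl => hg _ ⟨F, hF, l, rfl, by_contra fun h => ?_⟩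
    have := (hsign F hF l h).2 hnull
    omega

end Valuation

end Groth.Agent.HMCrit
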