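import Groth.Prelude.Def_GLin
import Mathlib

/-!
# The grading of an algebra with an action of a diagonalisable group
-/

set_option autoImplicit false
set_option linter.unusedSectionVars false

universe u v w
open TensorProduct AddMonoidAlgebra
noncomputable section

namespace Groth.Agent.HMCrit

variable {k : Type u} [Field k] {M : Type v} [AddCommGroup M] {R : Type w} [CommRing R] [Algebra k R]
  [HopfRep.Comod k (AddMonoidAlgebra k M) R]

variable (k M R) in
/-- `R ⊗ k[M]` as finitely supported functions. -/
def coeffEquiv : R ⊗[k] AddMonoidAlgebra k M ≃ₗ[k] (M →₀ R) :=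
  letI := Classical.decEq M
  TensorProduct.equivFinsuppOfBasisRight (AddMonoidAlgebra.basis M k)

lemma coeffEquiv_tmul_single (f : R) (a : M) :
    coeffEquiv k M R (f ⊗ₜ[k] single a (1 : k)) = Finsupp.single a f := by
  classical
  refine Finsupp.ext fun b => ?_
  have h : (AddMonoidAlgebra.basis M k).repr (single a (1 : k)) = Finsupp.single a 1 := by
    rw [← AddMonoidAlgebra.basis_apply, Module.Basis.repr_self]
  simp [coeffEquiv, Finsupp.single_apply, h]

variable (k M) in
/-- The components of an element. -/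
def cpts (f : R) : M →₀ R :=
  coeffEquiv k M R (HopfRep.Comod.coact (k := k) (A := AddMonoidAlgebra k M) f)

lemma coact_eq_sum (f : R) : HopfRep.Comod.coact (k := k) (A := AddMonoidAlgebra k M) f =
    (cpts k M f).sum fun a r => r ⊗ₜ[k] single a (1 : k) := by
  refine (coeffEquiv k M R).injective ?_
  rw [map_finsuppSum]
  simp only [coeffEquiv_tmul_single]
  exact (Finsupp.sum_single _).symm

lemma mem_eigen_iff {f : R} {a : M} :
    f ∈ HopfRep.eigenspace k (AddMonoidAlgebra k M) R (single a 1) ↔ cpts k M f = Finsupp.single a f := by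
  rw [cpts, ← coeffEquiv_tmul_single (k := k) (R := R), (coeffEquiv k M R).injective.eq_iff]
  rfl

lemma cpts_mem (f : R) (a : M) :
    cpts k M f a ∈ HopfRep.eigenspace k (AddMonoidAlgebra k M) R (single a 1) := by
  classical
  let φ : R ⊗[k] (AddMonoidAlgebra k M ⊗[k] AddMonoidAlgebra k M) →ₗ[k] R ⊗[k] AddMonoidAlgebra k M :=
    LinearMap.lTensor R ((TensorProduct.rid k _).toLinearMap ∘ₗ LinearMap.lTensor _ ((AddMonoidAlgebra.basis M k).coord a))
  have h := congrArg φ (LinearMap.congr_fun (HopfRep.Comod.coassoc (k := k) (A := AddMonoidAlgebra k M) (V := R)) f)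
  simp only [LinearMap.comp_apply, coact_eq_sum f, map_finsuppSum, LinearMap.rTensor_tmul, LinearMap.lTensor_tmul] at h
  have hd : ∀ c : M, (AddMonoidAlgebra.basis M k).coord a (single c (1 : k)) = if c = a then 1 else 0 := fun c => by
    rw [← AddMonoidAlgebra.basis_apply, Module.Basis.coord_apply, Module.Basis.repr_self, Finsupp.single_apply]
  have h1 : ∀ (z : R ⊗[k] AddMonoidAlgebra k M) (y : AddMonoidAlgebra k M),
      φ (TensorProduct.assoc k R _ _ (z ⊗ₜ[k] y)) = (AddMonoidAlgebra.basis M k).coord a y • z := by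
    intro z y
    induction z using TensorProduct.induction_on with
    | zero => simp
    | tmul r w => simp [φ, smul_tmul', tmul_smul]
    | add u v hu hv => rw [add_tmul, map_add, map_add, hu, hv, smul_add]
  have h2 : ∀ c r, φ (r ⊗ₜ[k] Coalgebra.comul (single c (1 : k))) = if c = a then r ⊗ₜ[k] single c (1 : k) else 0 :=
    fun c r => by
      simp only [φ, AddMonoidAlgebra.comul_single, CommSemiring.comul_apply, TensorProduct.map_tmul,
        AddMonoidAlgebra.lsingle_apply, LinearMap.lTensor_tmul, LinearMap.comp_apply, hd, LinearEquiv.coe_coe,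
        TensorProduct.rid_tmul, ite_smul, one_smul, zero_smul]
      split_ifs <;> simp
  simp only [LinearEquiv.coe_coe, h1, h2, hd, ite_smul, one_smul, zero_smul, Finsupp.sum_ite_eq'] at h
  refine (?_ : HopfRep.Comod.coact (k := k) (A := AddMonoidAlgebra k M) (cpts k M f a) = cpts k M f a ⊗ₜ[k] single a 1)
  by_cases ha : a ∈ (cpts k M f).support
  · rwa [if_pos ha, if_pos ha] at h
  · rw [Finsupp.notMem_support_iff.1 ha, map_zero, zero_tmul]

lemma sum_cpts (f : R) : ((cpts k M f).sum fun _ r => r) = f := by
  have h := LinearMap.congr_fun (HopfRep.Comod.counit_comp (k := k) (A := AddMonoidAlgebra k M) (V := R)) f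
  simp only [LinearMap.comp_apply, LinearMap.flip_apply, TensorProduct.mk_apply, coact_eq_sum f, map_finsuppSum,
    LinearMap.lTensor_tmul, AddMonoidAlgebra.counit_single, CommSemiring.counit_apply] at h
  have h2 := congrArg (TensorProduct.rid k R) h
  simpa [map_finsuppSum] using h2

variable [GLin.IsCoactAlg k (AddMonoidAlgebra k M) R]

lemma mul_mem_eigen {f g : R} {a b : M} (hf : f ∈ HopfRep.eigenspace k (AddMonoidAlgebra k M) R (single a 1))
    (hg : g ∈ HopfRep.eigenspace k (AddMonoidAlgebra k M) R (single b 1)) :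
    f * g ∈ HopfRep.eigenspace k (AddMonoidAlgebra k M) R (single (a + b) 1) := by
  show HopfRep.Comod.coact (k := k) (A := AddMonoidAlgebra k M) (f * g) = (f * g) ⊗ₜ[k] single (a + b) 1
  rw [GLin.IsCoactAlg.coact_mul, show HopfRep.Comod.coact (k := k) (A := AddMonoidAlgebra k M) f = _ from hf,
    show HopfRep.Comod.coact (k := k) (A := AddMonoidAlgebra k M) g = _ from hg, Algebra.TensorProduct.tmul_mul_tmul,
    single_mul_single, one_mul]

variable (k M R) in
/-- Positivity: no two opposite nonzero weights. -/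
def IsPosGrading : Prop :=
  ∀ w : M, HopfRep.eigenspace k (AddMonoidAlgebra k M) R (single w 1) ≠ ⊥ →
    HopfRep.eigenspace k (AddMonoidAlgebra k M) R (single (-w) 1) ≠ ⊥ → w = 0

lemma cpts_zero_mul (hpos : IsPosGrading k M R) (f g : R) :
    cpts k M (f * g) 0 = cpts k M f 0 * cpts k M g 0 := by
  classical
  have e : cpts k M (f * g) =
      (cpts k M f).sum fun a r => (cpts k M g).sum fun b s => Finsupp.single (a + b) (r * s) := by
    rw [cpts, GLin.IsCoactAlg.coact_mul, coact_eq_sum f, coact_eq_sum g]
    simp only [Finsupp.sum, Finset.sum_mul, Finset.mul_sum, map_sum, Algebra.TensorProduct.tmul_mul_tmul,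
      single_mul_single, one_mul, coeffEquiv_tmul_single]
    exact Finset.sum_comm
  rw [e]
  simp only [Finsupp.sum, Finsupp.finsetSum_apply, Finsupp.single_apply]
  refine (Finset.sum_eq_single 0 (fun a _ ha => Finset.sum_eq_zero fun b _ => ?_) fun h0 => ?_).trans ?_
  · split_ifs with hab
    · by_contra hne
      obtain ⟨h1, h2⟩ := mul_ne_zero_iff_left_right hne
      refine ha (hpos a (fun hb => h1 ?_) fun hb => h2 ?_)
      · simpa [hb] using cpts_mem (k := k) f a
      · have := cpts_mem (k := k) g b
        rw [show b = -a from (neg_eq_of_add_eq_zero_right hab).symm, hb] at this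
        simpa [show b = -a from (neg_eq_of_add_eq_zero_right hab).symm] using this
    · rfl
  · rw [Finsupp.notMem_support_iff.1 h0]
    simp
  · rw [Finset.sum_eq_single (0 : M) (fun b _ hb => if_neg (by simpa using hb))
      (fun h0 => by rw [Finsupp.notMem_support_iff.1 h0]; simp), if_pos (zero_add 0)]
where
  mul_ne_zero_iff_left_right {x y : R} (h : x * y ≠ 0) : x ≠ 0 ∧ y ≠ 0 :=
    ⟨left_ne_zero_of_mul h, right_ne_zero_of_mul h⟩

lemma one_mem_eigen : (1 : R) ∈ HopfRep.eigenspace k (AddMonoidAlgebra k M) R (single (0 : M) 1) := by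
  show HopfRep.Comod.coact (k := k) (A := AddMonoidAlgebra k M) (1 : R) = _
  rw [GLin.IsCoactAlg.coact_one]
  rfl

variable (M) in
/-- The projection to weight zero, for a positive grading. -/
def wzero (hpos : IsPosGrading k M R) : R →ₐ[k] R where
  toFun f := cpts k M f 0
  map_one' := by rw [mem_eigen_iff.1 (one_mem_eigen (k := k) (M := M) (R := R)), Finsupp.single_eq_same]
  map_mul' := cpts_zero_mul hpos
  map_zero' := by simp [cpts]
  map_add' f g := by simp [cpts]
  commutes' c := by
    rw [Algebra.algebraMap_eq_smul_one, cpts, map_smul, map_smul, ← cpts, Finsupp.smul_apply,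
      mem_eigen_iff.1 (one_mem_eigen (k := k) (M := M) (R := R)), Finsupp.single_eq_same]

lemma wzero_apply (hpos : IsPosGrading k M R) (f : R) : wzero M hpos f = cpts k M f 0 := rfl

lemma orbitHom_eq_sum (x : R →ₐ[k] k) (f : R) :
    GLin.orbitHom k (AddMonoidAlgebra k M) x f = (cpts k M f).sum fun a r => x r • single a (1 : k) := by
  show Algebra.TensorProduct.lid k _ (Algebra.TensorProduct.map x (AlgHom.id k _)
    (HopfRep.Comod.coact (k := k) (A := AddMonoidAlgebra k M) f)) = _
  rw [coact_eq_sum, map_finsuppSum, map_finsuppSum]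
  simp

lemma coeff_orbitHom (x : R →ₐ[k] k) (f : R) (a : M) :
    (GLin.orbitHom k (AddMonoidAlgebra k M) x f).coeff a = x (cpts k M f a) := by
  classical
  rw [orbitHom_eq_sum, Finsupp.sum, coeff_sum, Finsupp.finsetSum_apply,
    Finset.sum_eq_single a (fun b _ hb => by simp [hb]) (fun h => by simp [Finsupp.notMem_support_iff.1 h])]
  simp

end Groth.Agent.HMCrit
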