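import Groth.Agent.GLForms.Point
import Groth.Agent.Comod.Corep

/-!
# Points of the special linear group as matrices; products of points
-/

set_option autoImplicit false
set_option linter.unusedSectionVars false

universe u v w
open TensorProduct CoordGrp WithConv Groth.Agent.Comod Groth.Agent.GLForms Matrix
noncomputable section

namespace Groth.Agent.HMCrit

variable {k : Type u} [CommRing k]

section General
variable {A : Type v} [CommRing A] [HopfAlgebra k A] {B : Type w} [CommRing B] [Algebra k B]

/-- Product of two points. -/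
def pmul (φ ψ : A →ₐ[k] B) : A →ₐ[k] B := (toConv φ * toConv ψ).ofConv

/-- Inverse of a point. -/
def pinv (φ : A →ₐ[k] B) : A →ₐ[k] B := φ.comp (HopfAlgebra.antipodeAlgHom k A)

lemma pmul_assoc (a b c : A →ₐ[k] B) : pmul (pmul a b) c = pmul a (pmul b c) := by
  show (toConv a * toConv b * toConv c).ofConv = (toConv a * (toConv b * toConv c)).ofConv
  rw [mul_assoc]

variable {J : Type*} [Fintype J] [DecidableEq J]

/-- A corepresentation turns products of points into products of matrices. -/
lemma map_pmul {P : Matrix J J A} (hP : IsCorep (k := k) P) (φ ψ : A →ₐ[k] B) :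
    P.map (pmul φ ψ) = P.map φ * P.map ψ := by
  ext i j
  have h := congrFun (congrFun hP.map_comul i) j
  simp only [Matrix.map_apply, Bialgebra.comulAlgHom_apply] at h
  rw [Matrix.map_apply, pmul, AlgHom.convMul_apply, h]
  simp [Matrix.mul_apply, map_sum]

end General

variable {N : ℕ}

/-- The generic matrix of the special linear group. -/
def genSL (k : Type u) [CommRing k] (N : ℕ) : Matrix (Fin N) (Fin N) (SLn N k) := fun i j => SLn.X i j

lemma comul_SL_X (i j : Fin N) : CoalgebraStruct.comul (R := k) (SLn.X i j : SLn N k) =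
    ∑ l, SLn.X i l ⊗ₜ[k] SLn.X l j := by
  refine (Bialgebra.Quotient.comul_mk (GLn.slIdeal N k) (GLn.X i j)).trans ?_
  rw [GLn.comul_X, map_sum]
  rfl

lemma isCorep_genSL : IsCorep (k := k) (genSL k N) where
  map_comul := by
    ext i j
    simp [genSL, comul_SL_X, Matrix.mul_apply]
  map_counit := by
    ext i j
    show CoalgebraStruct.counit (R := k) (GLn.X i j : GLn N k) = _
    rw [GLn.counit_X, Matrix.one_apply]

lemma mat_eq_map {B : Type w} [CommRing B] [Algebra k B] (φ : SLn N k →ₐ[k] B) : mat φ = (genSL k N).map φ := rfl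

lemma mat_pmul {B : Type w} [CommRing B] [Algebra k B] (φ ψ : SLn N k →ₐ[k] B) :
    mat (pmul φ ψ) = mat φ * mat ψ := map_pmul isCorep_genSL φ ψ

lemma mat_pinv_mul {B : Type w} [CommRing B] [Algebra k B] (φ : SLn N k →ₐ[k] B) :
    mat (pinv φ) * mat φ = 1 := by
  have h := congrArg (fun M : Matrix (Fin N) (Fin N) (SLn N k) => M.map φ)
    (isCorep_genSL (k := k) (N := N)).antipode_mul
  simp only [Matrix.map_mul, Matrix.map_one _ (map_zero _) (map_one _)] at h
  exact h

lemma mat_comp {B B' : Type w} [CommRing B] [CommRing B'] [Algebra k B] [Algebra k B'] (f : B →ₐ[k] B')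
    (φ : SLn N k →ₐ[k] B) : mat (f.comp φ) = (mat φ).map f := rfl

section ToBialg
variable {L : Type w} [CommRing L] [Bialgebra k L]

/-- A matrix corepresentation of determinant one is a homomorphism to `SL_N`. -/
def ptBialg (M : Matrix (Fin N) (Fin N) L) (hdet : M.det = 1) (hM : IsCorep (k := k) M) : SLn N k →ₐc[k] L :=
  BialgHom.ofAlgHom (SLn.pt N k M hdet)
    (SLn.algHom_ext (fun i j => by
      show CoalgebraStruct.counit (R := k) (SLn.pt N k M hdet (SLn.X i j)) = CoalgebraStruct.counit (R := k) (GLn.X i j : GLn N k)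
      rw [SLn.pt_X, GLn.counit_X]
      exact (congrFun (congrFun hM.map_counit i) j).trans (Matrix.one_apply ..))
      (by simp [mk_Dinv_eq_one]))
    (SLn.algHom_ext (fun i j => by
      show Algebra.TensorProduct.map _ _ (CoalgebraStruct.comul (R := k) (SLn.X i j : SLn N k)) =
        CoalgebraStruct.comul (R := k) (SLn.pt N k M hdet (SLn.X i j))
      rw [comul_SL_X, SLn.pt_X, map_sum]
      refine Eq.trans ?_ (congrFun (congrFun hM.map_comul i) j).symm
      simp [Matrix.mul_apply])
      (by simp [mk_Dinv_eq_one, Algebra.TensorProduct.one_def]))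

@[simp] lemma ptBialg_X (M : Matrix (Fin N) (Fin N) L) (hdet : M.det = 1) (hM : IsCorep (k := k) M) (i j : Fin N) :
    ptBialg M hdet hM (SLn.X i j) = M i j := SLn.pt_X M hdet i j

end ToBialg

/-- The diagonal point `diag(t^r)` with values in any algebra, for a unit `t`. -/
lemma det_diagonal_zpow {B : Type w} [CommRing B] (r : Fin N → ℤ) (hr : ∑ i, r i = 0) (t : Bˣ) :
    (Matrix.diagonal fun i => ((t ^ r i : Bˣ) : B)).det = 1 := by
  classical
  rw [Matrix.det_diagonal]
  have h : ∀ s : Finset (Fin N), ∏ i ∈ s, ((t ^ r i : Bˣ) : B) = ((t ^ (∑ i ∈ s, r i) : Bˣ) : B) := fun s => by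
    induction s using Finset.induction_on with
    | empty => simp
    | insert a s ha ih => rw [Finset.prod_insert ha, Finset.sum_insert ha, ih, _root_.zpow_add, Units.val_mul]
  rw [h, hr, zpow_zero, Units.val_one]

end Groth.Agent.HMCrit
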