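import Groth.Agent.HMCrit.Points
import Groth.Agent.GLRed.Separation
import Groth.Agent.GenBertini.Basic
import Groth.Agent.RegTrans.Basic
import Groth.Agent.GLinFree.Dim
import Groth.Agent.S11793
import Groth.Agent.S13252

/-!
# Invariant functions of a closed subgroup of `SL_N`

The invariant functions under right translations by a linearly reductive subgroup are finitely generated, they
separate the cosets, all their points lift, and a function vanishing to second order at a point does so already
among the invariants.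
-/

set_option autoImplicit false
set_option linter.unusedSectionVars false
set_option linter.style.haveILetI false

universe u v w
open TensorProduct CoordGrp WithConv Groth.Agent.Comod Groth.Agent.GLForms
noncomputable section

namespace Groth.Agent.HMCrit

variable {k : Type u} [Field k] {A : Type u} [CommRing A] [HopfAlgebra k A] {n : ℕ} (q : SLn n k →ₐc[k] A)

/-- The homomorphism as a map of algebras. -/
abbrev qa : SLn n k →ₐ[k] A := (q : SLn n k →ₐ[k] A)

/-- Right translations by the subgroup. -/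
@[reducible] def cosetComod : HopfRep.Comod k A (SLn n k) := GLin.comodAlong q (HopfRep.Comod.regular k (SLn n k))

lemma cosetCoactAlg : @GLin.IsCoactAlg k _ A _ _ (SLn n k) _ _ (cosetComod q) :=
  GLin.isCoactAlg_comodAlong q (HopfRep.Comod.regular k (SLn n k))
    ⟨Bialgebra.comul_one, fun a b => Bialgebra.comul_mul a b⟩

/-- The functions invariant under right translations by the subgroup. -/
def rInv : Subalgebra k (SLn n k) :=
  letI := cosetComod q
  haveI := cosetCoactAlg q
  GLin.invariants k A (SLn n k)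

lemma pmul_comp_bialg {B : Type v} [CommRing B] [Algebra k B] (a b : A →ₐ[k] B) :
    pmul (a.comp (qa q)) (b.comp (qa q)) = (pmul a b).comp (qa q) := by
  refine AlgHom.ext fun x => ?_
  exact (DFunLike.congr_fun (AlgHom.convMul_comp_bialgHom_distrib (toConv a) (toConv b) q) x).symm

lemma pinv_comp_bialg {B : Type v} [CommRing B] [Algebra k B] (a : A →ₐ[k] B) :
    pinv (a.comp (qa q)) = (pinv a).comp (qa q) := by
  refine point_ext ?_
  have h1 := mat_pinv_mul (a.comp (qa q))
  have h2 : mat ((pinv a).comp (qa q)) * mat (a.comp (qa q)) = 1 := by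
    have hc : Comod.IsCorep (k := k) ((genSL k n).map (qa q)) := by
      constructor
      · refine Matrix.ext fun i j => ?_
        have := congrFun (congrFun (isCorep_genSL (k := k) (N := n)).map_comul i) j
        simp only [Matrix.map_apply, Bialgebra.comulAlgHom_apply, Matrix.mul_apply] at this ⊢
        rw [show CoalgebraStruct.comul (R := k) (qa q (genSL k n i j)) = Algebra.TensorProduct.map (qa q) (qa q)
          (CoalgebraStruct.comul (genSL k n i j)) from (CoalgHomClass.map_comp_comul_apply q _).symm, this, map_sum]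
        simp
      · refine Matrix.ext fun i j => ?_
        have := congrFun (congrFun (isCorep_genSL (k := k) (N := n)).map_counit i) j
        simp only [Matrix.map_apply, Bialgebra.counitAlgHom_apply] at this ⊢
        rw [← this]
        exact CoalgHomClass.counit_comp_apply q _
    have h := congrArg (fun M : Matrix (Fin n) (Fin n) A => M.map a) hc.antipode_mul
    simp only [Matrix.map_mul, Matrix.map_one _ (map_zero _) (map_one _)] at h
    exact h
  exact (Matrix.inv_eq_left_inv h1).symm.trans (Matrix.inv_eq_left_inv h2)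

/-- Invariant functions take the same value on a coset. -/
lemma rInv_apply_pmul {B : Type v} [CommRing B] [Algebra k B] {f : SLn n k} (hf : f ∈ rInv q)
    (x : SLn n k →ₐ[k] B) (h : A →ₐ[k] B) : pmul x (h.comp (qa q)) f = x f := by
  let Φ : SLn n k ⊗[k] A →ₐ[k] B := Algebra.TensorProduct.lift x h fun _ _ => Commute.all _ _
  have e : ∀ t : SLn n k ⊗[k] SLn n k, Algebra.TensorProduct.lift x (h.comp (qa q)) (fun _ _ => Commute.all _ _) t =
      Φ (TensorProduct.map LinearMap.id (q : SLn n k →ₗ[k] A) t) := fun t => by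
    induction t using TensorProduct.induction_on with
    | zero => simp
    | tmul a b => simp [Φ]
    | add a b ha hb => simp only [map_add, ha, hb]
  have hf' : TensorProduct.map LinearMap.id (q : SLn n k →ₗ[k] A) (CoalgebraStruct.comul f) = f ⊗ₜ[k] (1 : A) := hf
  rw [pmul, AlgHom.convMul_apply]
  refine Eq.trans ?_ ((congrArg Φ hf').trans (by simp [Φ]))
  rw [← e]

lemma pinv_mat {B : Type v} [CommRing B] [Algebra k B] (a : SLn n k →ₐ[k] B) : mat (pinv a) = (mat a)⁻¹ :=
  (Matrix.inv_eq_left_inv (mat_pinv_mul a)).symm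

lemma pinv_pmul {B : Type v} [CommRing B] [Algebra k B] (a b : SLn n k →ₐ[k] B) :
    pinv (pmul a b) = pmul (pinv b) (pinv a) :=
  point_ext (by rw [pinv_mat, mat_pmul, mat_pmul, pinv_mat, pinv_mat, Matrix.mul_inv_rev])

lemma pinv_pinv {B : Type v} [CommRing B] [Algebra k B] (a : SLn n k →ₐ[k] B) : pinv (pinv a) = a :=
  point_ext (by rw [pinv_mat, pinv_mat, Matrix.nonsing_inv_nonsing_inv _ (by rw [det_mat]; exact isUnit_one)])

/-- The antipode turns them into functions invariant on the other side. -/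
lemma antipode_rInv_apply {B : Type v} [CommRing B] [Algebra k B] {f : SLn n k} (hf : f ∈ rInv q)
    (h : A →ₐ[k] B) (x : SLn n k →ₐ[k] B) :
    pmul (h.comp (qa q)) x (HopfAlgebra.antipodeAlgHom k _ f) = x (HopfAlgebra.antipodeAlgHom k _ f) := by
  show pinv (pmul (h.comp (qa q)) x) f = pinv x f
  rw [pinv_pmul, pinv_comp_bialg, rInv_apply_pmul q hf]

variable (hq : Function.Surjective q)

include hq in
lemma orbitHom_surjective (x : SLn n k →ₐ[k] k) :
    letI := cosetComod q
    haveI := cosetCoactAlg q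
    Function.Surjective (GLin.orbitHom k A x) := by
  letI := cosetComod q
  haveI := cosetCoactAlg q
  let x' : SLn n k →ₐ[k] SLn n k := (Algebra.ofId k _).comp x
  have e : GLin.orbitHom k A x = (qa q).comp (pmul x' (AlgHom.id k _)) := by
    refine AlgHom.ext fun f => ?_
    show Algebra.TensorProduct.lid k A (Algebra.TensorProduct.map x (AlgHom.id k A)
      (TensorProduct.map LinearMap.id (q : SLn n k →ₗ[k] A) (CoalgebraStruct.comul f))) = qa q (pmul x' (AlgHom.id k _) f)
    rw [pmul, AlgHom.convMul_apply]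
    generalize (CoalgebraStruct.comul (R := k) f : SLn n k ⊗[k] SLn n k) = t
    induction t using TensorProduct.induction_on with
    | zero => simp
    | tmul a b => simp [x', Algebra.smul_def]; exact congrArg (· * q b) ((qa q).commutes (x a)).symm
    | add a b ha hb => simp only [map_add, ha, hb]
  rw [e]
  refine hq.comp fun f => ⟨pmul (pinv x') (AlgHom.id k _) f, ?_⟩
  have h1 : pmul (pinv x') (pmul x' (AlgHom.id k (SLn n k))) = AlgHom.id k _ := by
    refine point_ext ?_
    rw [mat_pmul, mat_pmul, ← Matrix.mul_assoc, mat_pinv_mul, Matrix.one_mul]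
  have h2 : (pmul x' (AlgHom.id k (SLn n k))).comp (pmul (pinv x') (AlgHom.id k _)) = AlgHom.id k _ := by
    refine point_ext ?_
    refine Eq.trans ?_ (congrArg mat h1)
    rw [mat_comp, mat_pmul, mat_pmul, mat_pmul, Matrix.map_mul]
    congr 1
    · refine Matrix.ext fun i j => ?_
      show pmul x' (AlgHom.id k _) (x' (HopfAlgebra.antipodeAlgHom k _ (SLn.X i j))) = x' (HopfAlgebra.antipodeAlgHom k _ (SLn.X i j))
      exact AlgHom.commutes _ _
    · exact (mat_comp _ _).symm.trans (by rw [AlgHom.comp_id, mat_pmul])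
  exact DFunLike.congr_fun h2 f

variable [IsAlgClosed k] [CharZero k] [Algebra.FiniteType k A]
variable (hG : HopfRep.IsLinearlyReductive k A)

include hG

/-- Finitely many generators of the invariant functions. -/
theorem exists_rInv_generators :
    ∃ s : Finset (SLn n k), (∀ f ∈ s, f ∈ rInv q) ∧ ∀ f ∈ rInv q, f ∈ Algebra.adjoin k (s : Set (SLn n k)) := by
  letI := cosetComod q
  haveI := cosetCoactAlg q
  exact Groth.Agent.S11793.result k A hG (SLn n k) GLin.IsCoactAlg.coact_mul GLin.IsCoactAlg.coact_one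

/-- Every point of the invariant functions lifts. -/
theorem exists_point_lift (c : rInv q →ₐ[k] k) : ∃ x : SLn n k →ₐ[k] k, ∀ f : rInv q, x f = c f := by
  letI := cosetComod q
  haveI := cosetCoactAlg q
  obtain ⟨l⟩ := Comod.nonempty_integral hG
  obtain ⟨x, -, hx⟩ := GLRed.exists_point_of_invariant_point (R := SLn n k) l (I := ⊥)
    (Comod.isSubcomod_iff.mpr fun φ y hy => by
      rw [show y = 0 from hy, map_zero]
      exact Submodule.zero_mem _)
    c (fun f hf => by
      rw [show f = 0 from Subtype.ext (by simpa using hf)]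
      exact map_zero c)
  exact ⟨x, hx⟩

include hq in
/-- Points with the same invariant functions lie in the same coset. -/
theorem exists_of_forall_eq (x y : SLn n k →ₐ[k] k) (h : ∀ f ∈ rInv q, x f = y f) :
    ∃ g : A →ₐ[k] k, y = pmul x (g.comp (qa q)) := by
  letI := cosetComod q
  haveI := cosetCoactAlg q
  obtain ⟨l⟩ := Comod.nonempty_integral hG
  obtain ⟨z, hx, hy⟩ := GLRed.exists_common_closure (A := A) l x y h
  have key : ∀ x : SLn n k →ₐ[k] k, GLin.InOrbitClosure k A x z → ∃ g : A →ₐ[k] k, z = pmul x (g.comp (qa q)) := by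
    intro x hx
    have hs := orbitHom_surjective q hq x
    refine ⟨AlgHom.liftOfSurjective (GLin.orbitHom k A x) hs z hx, ?_⟩
    refine AlgHom.ext fun f => ?_
    conv_lhs => rw [← AlgHom.liftOfSurjective_apply (GLin.orbitHom k A x) hs z hx f]
    generalize AlgHom.liftOfSurjective (GLin.orbitHom k A x) hs z hx = g
    show g (Algebra.TensorProduct.lid k A (Algebra.TensorProduct.map x (AlgHom.id k A)
      (TensorProduct.map LinearMap.id (q : SLn n k →ₗ[k] A) (CoalgebraStruct.comul f)))) = _
    rw [pmul, AlgHom.convMul_apply]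
    generalize (CoalgebraStruct.comul (R := k) f : SLn n k ⊗[k] SLn n k) = t
    induction t using TensorProduct.induction_on with
    | zero => simp
    | tmul a b => simp
    | add a b ha hb => simp only [map_add, ha, hb]
  obtain ⟨a, ha⟩ := key x hx
  obtain ⟨b, hb⟩ := key y hy
  refine ⟨pmul a (pinv b), point_ext ?_⟩
  have h1 : mat (pinv (b.comp (qa q))) = (mat (b.comp (qa q)))⁻¹ := pinv_mat _
  rw [← pmul_comp_bialg, ← pinv_comp_bialg, mat_pmul, mat_pmul, ← Matrix.mul_assoc, ← mat_pmul x, ← ha, hb, mat_pmul,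
    h1, Matrix.mul_assoc, Matrix.mul_nonsing_inv _ (by rw [det_mat]; exact isUnit_one), Matrix.mul_one]

omit hG in
/-- Over a smooth quotient, a function in `m² ∩ I` lies in `m I`. -/
lemma mem_mul_of_mem_sq {R : Type u} [CommRing R] [Algebra k R] {I m : Ideal R} [Algebra.FormallySmooth k (R ⧸ I)]
    (hIm : I ≤ m) {y : R} (hy : y ∈ m ^ 2) (hyI : y ∈ I) : y ∈ m * I := by
  let J : Ideal (R ⧸ I ^ 2) := I.map (Ideal.Quotient.mk (I ^ 2))
  have hJ : IsNilpotent J := ⟨2, by rw [← Ideal.map_pow, Ideal.map_quotient_self]; rfl⟩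
  let π : R →ₐ[k] R ⧸ I ^ 2 := Ideal.Quotient.mkₐ k _
  let ρ : R →ₐ[k] R ⧸ I := Ideal.Quotient.mkₐ k _
  let g : R ⧸ I →ₐ[k] (R ⧸ I ^ 2) ⧸ J := Ideal.Quotient.liftₐ I ((Ideal.Quotient.mkₐ k J).comp π) fun a ha =>
    Ideal.Quotient.eq_zero_iff_mem.2 (Ideal.mem_map_of_mem _ ha)
  let σ := Algebra.FormallySmooth.lift J hJ g
  have hσ : ∀ u, π u - σ (ρ u) ∈ J := fun u => by
    rw [← Ideal.Quotient.eq_zero_iff_mem, map_sub, Algebra.FormallySmooth.mk_lift]
    exact sub_self _
  let M : Ideal (R ⧸ I ^ 2) := m.map (Ideal.Quotient.mk (I ^ 2))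
  have hJM : J ≤ M := Ideal.map_mono hIm
  have hM : ∀ u ∈ m, σ (ρ u) ∈ M := fun u hu => by
    rw [show σ (ρ u) = π u - (π u - σ (ρ u)) by ring]
    exact sub_mem (Ideal.mem_map_of_mem _ hu) (hJM (hσ u))
  have key : π y - σ (ρ y) ∈ M * J := by
    rw [pow_two] at hy
    refine Submodule.mul_induction_on hy (fun u hu v hv => ?_) fun a b ha hb => ?_
    · rw [map_mul, map_mul, map_mul, show π u * π v - σ (ρ u) * σ (ρ v) =
        π u * (π v - σ (ρ v)) + σ (ρ v) * (π u - σ (ρ u)) by ring]
      exact add_mem (Ideal.mul_mem_mul (Ideal.mem_map_of_mem _ hu) (hσ v)) (Ideal.mul_mem_mul (hM v hv) (hσ u))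
    · rw [map_add, map_add, map_add, add_sub_add_comm]
      exact add_mem ha hb
  rw [show ρ y = 0 from Ideal.Quotient.eq_zero_iff_mem.2 hyI, map_zero, sub_zero,
    show M * J = (m * I).map (Ideal.Quotient.mk (I ^ 2)) from (Ideal.map_mul ..).symm] at key
  have h := (Ideal.mem_quotient_iff_mem_sup (I := I ^ 2) (J := m * I)).1 key
  rwa [sup_eq_left.2 (pow_two I ▸ Ideal.mul_mono hIm le_rfl)] at h

omit hG in
/-- Coefficients in a basis of `I/I²` of an element of `m I` vanish at the point. -/
lemma coeff_eq_zero_of_mem_mul {R : Type u} [CommRing R] [Algebra k R] {x : R →ₐ[k] k} {I : Ideal R}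
    (hI : I ≤ RingHom.ker x) {r : ℕ} (F : Fin r → R) (hF : ∀ i, F i ∈ I)
    (hli : LinearIndependent (R ⧸ I) fun i => I.toCotangent ⟨F i, hF i⟩)
    (hsp : Submodule.span (R ⧸ I) (Set.range fun i => I.toCotangent ⟨F i, hF i⟩) = ⊤)
    (c : Fin r → R) (h : ∑ j, c j * F j ∈ RingHom.ker x * I) (i : Fin r) : x (c i) = 0 := by
  classical
  let B := Module.Basis.mk hli hsp.ge
  let ev : R ⧸ I →+* k := Ideal.Quotient.lift I x.toRingHom fun y hy => hI hy
  let φ : I →+ k := AddMonoidHom.mk' (fun z => ev (B.repr (I.toCotangent z) i)) fun u v => by simp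
  have hB : ∀ j, I.toCotangent ⟨F j, hF j⟩ = B j := fun j => (Module.Basis.mk_apply hli hsp.ge j).symm
  have hφs : ∀ (u : R) (z : I), φ (u • z) = x u * φ z := fun u z => by
    show ev (B.repr (I.toCotangent (u • z)) i) = x u * ev (B.repr (I.toCotangent z) i)
    rw [map_smul, ← IsScalarTower.algebraMap_smul (R ⧸ I) u (I.toCotangent z), map_smul, Ideal.Quotient.algebraMap_eq,
      Finsupp.smul_apply, smul_eq_mul, map_mul]
    rfl
  have hφ0 : ∀ z ∈ RingHom.ker x * I, ∃ hz : z ∈ I, φ ⟨z, hz⟩ = 0 := fun z hz => by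
    refine Submodule.mul_induction_on hz (fun u hu v hv => ⟨I.mul_mem_left u hv, ?_⟩)
      (fun u v hu hv => ⟨add_mem hu.1 hv.1, ?_⟩)
    · exact (hφs u ⟨v, hv⟩).trans (by rw [RingHom.mem_ker.1 hu, zero_mul])
    · exact (φ.map_add ⟨u, hu.1⟩ ⟨v, hv.1⟩).trans (by rw [hu.2, hv.2, add_zero])
  obtain ⟨hzI, h0⟩ := hφ0 _ h
  have hsum : (⟨∑ j, c j * F j, hzI⟩ : I) = ∑ j, c j • (⟨F j, hF j⟩ : I) :=
    Subtype.ext (by rw [AddSubmonoidClass.coe_finsetSum]; rfl)
  have hφF : ∀ j, φ ⟨F j, hF j⟩ = if j = i then 1 else 0 := fun j => by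
    show ev (B.repr (I.toCotangent _) i) = _
    rw [hB, B.repr_self, Finsupp.single_apply, apply_ite ev, map_one, map_zero]
  simp only [hsum, map_sum, hφs, hφF, mul_ite, mul_one, mul_zero, Finset.sum_ite_eq', Finset.mem_univ, if_true] at h0
  exact h0

/-- An invariant function vanishing to second order at a point with free closed orbit does so among the
invariants. -/
theorem mem_sq_invariants {R : Type u} [CommRing R] [Algebra k R] [Algebra.FiniteType k R] [IsReduced R]
    [HopfRep.Comod k A R] [GLin.IsCoactAlg k A R] (x : R →ₐ[k] k) (hs : Function.Surjective (GLin.orbitHom k A x))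
    (f : GLin.invariants k A R) (hf : (f : R) ∈ RingHom.ker x ^ 2) :
    f ∈ RingHom.ker (x.comp (GLin.invariants k A R).val) ^ 2 := by
  classical
  obtain ⟨r, F, hF, b, hli, hsp, hbu, -, hpow⟩ :=
    Groth.Agent.S13252.result k A hG R x hs (RingHom.ker (GLin.orbitHom k A x)) rfl
  haveI : Algebra.FormallySmooth k (R ⧸ RingHom.ker (GLin.orbitHom k A x)) := by
    haveI : IsNoetherianRing A := Algebra.FiniteType.isNoetherianRing k _
    haveI : IsRegularRing A := RegTrans.isRegularRing_of_maximal fun M _ => GLinFree.isRegularLocalRing_hopf (k := k) M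
    haveI := GenBertini.smooth_of_regular k A
    exact Algebra.FormallySmooth.of_equiv (Ideal.quotientKerAlgEquivOfSurjective hs).symm
  have hIx : RingHom.ker (GLin.orbitHom k A x) ≤ RingHom.ker x := fun y hy => by
    rw [RingHom.mem_ker, ← GLinFree.counit_orbit (A := A), RingHom.mem_ker.1 hy, map_zero]
  have hcomap : ∀ g : GLin.invariants k A R, (g : R) ∈ RingHom.ker (GLin.orbitHom k A x) ↔ x (g : R) = 0 := fun g => by
    refine ⟨fun h => RingHom.mem_ker.1 (hIx h), fun h => ?_⟩
    rw [RingHom.mem_ker, GLinFree.orbitHom_invariant x g.2, h, map_zero]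
  have hfx : x (f : R) = 0 := RingHom.mem_ker.1 (Ideal.pow_le_self two_ne_zero hf)
  have hfm : algebraMap _ (Localization.Away b) f ∈ ((Ideal.comap (GLin.invariants k A R).val
      (RingHom.ker (GLin.orbitHom k A x))) ^ 1).map (algebraMap _ (Localization.Away b)) :=
    Ideal.mem_map_of_mem _ (by rw [pow_one]; exact (hcomap f).2 hfx)
  rw [hpow 1, pow_one, IsLocalization.mem_map_algebraMap_iff (Submonoid.powers b) (Localization.Away b)] at hfm
  obtain ⟨⟨⟨a, ha⟩, ⟨s, N, hN⟩⟩, he⟩ := hfm
  rw [← map_mul] at he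
  obtain ⟨⟨t, N', hN'⟩, ht⟩ := (IsLocalization.eq_iff_exists (Submonoid.powers b) (Localization.Away b)).1 he
  obtain ⟨c, hc⟩ := Ideal.mem_span_range_iff_exists_fun.1 ha
  simp only at hN hN' ht
  subst hN hN'
  replace ht : b ^ N' * (f * b ^ N) = b ^ N' * a := ht
  have hsum : ((b ^ N' * a : GLin.invariants k A R) : R) = ∑ j, ((b ^ N' * c j : GLin.invariants k A R) : R) * (F j : R) := by
    rw [← hc, Finset.mul_sum, AddSubmonoidClass.coe_finsetSum]
    exact Finset.sum_congr rfl fun j _ => by push_cast; ring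
  have hy : ((b ^ N' * a : GLin.invariants k A R) : R) ∈ RingHom.ker x * RingHom.ker (GLin.orbitHom k A x) := by
    refine mem_mul_of_mem_sq (k := k) hIx ?_ ?_
    · rw [← ht]
      push_cast
      exact Ideal.mul_mem_left _ _ (Ideal.mul_mem_right _ _ hf)
    · rw [← ht]
      push_cast
      exact Ideal.mul_mem_left _ _ (Ideal.mul_mem_right _ _ ((hcomap f).2 hfx))
  rw [hsum] at hy
  have hcoef := coeff_eq_zero_of_mem_mul hIx _ hF hli hsp _ hy
  have hbx : x (b : R) ≠ 0 := fun h0 => by
    haveI : Nontrivial (R ⧸ RingHom.ker (GLin.orbitHom k A x)) := Ideal.Quotient.nontrivial_iff.2 fun e =>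
      RingHom.ker_ne_top x (top_le_iff.1 (e.ge.trans hIx))
    exact hbu.ne_zero (Ideal.Quotient.eq_zero_iff_mem.2 ((hcomap b).2 h0))
  set m := RingHom.ker (x.comp (GLin.invariants k A R).val)
  have hba : b ^ N' * a ∈ m ^ 2 := by
    rw [← hc, Finset.mul_sum, pow_two]
    refine Ideal.sum_mem _ fun i _ => ?_
    rw [← mul_assoc]
    exact Ideal.mul_mem_mul (RingHom.mem_ker.2 (hcoef i)) (RingHom.mem_ker.2 ((hcomap (F i)).1 (hF i)))
  let u := algebraMap k (GLin.invariants k A R) ((x (b : R) ^ (N' + N))⁻¹)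
  have hu : 1 - u * b ^ (N' + N) ∈ m := by
    simp [m, u, RingHom.mem_ker, inv_mul_cancel₀ (pow_ne_zero _ hbx)]
  rw [show f = u * (b ^ N' * (f * b ^ N)) + (1 - u * b ^ (N' + N)) * f by ring, ht]
  refine add_mem (Ideal.mul_mem_left _ _ hba) ?_
  rw [pow_two]
  exact Ideal.mul_mem_mul hu (RingHom.mem_ker.2 hfx)

include hq in
/-- An invariant function vanishing to second order at a point does so among the invariants. -/
theorem mem_sq_of_mem_sq (x : SLn n k →ₐ[k] k) {f : rInv q} (hf : (f : SLn n k) ∈ RingHom.ker x ^ 2) :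
    f ∈ RingHom.ker (x.comp (rInv q).val) ^ 2 := by
  haveI : IsReduced (SLn n k) := HopfCartier.isReduced (k := k)
  exact @mem_sq_invariants k _ A _ _ _ _ _ hG (SLn n k) _ _ _ _ (cosetComod q) (cosetCoactAlg q) x
    (orbitHom_surjective q hq x) f hf

end Groth.Agent.HMCrit
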