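import Groth.Agent.HMCrit.Engine
import Groth.Agent.HMCrit.Space

/-!
# Weight decomposition under a diagonal one-parameter subgroup
-/

set_option autoImplicit false
set_option linter.unusedSectionVars false

universe u v w
open TensorProduct CoordGrp WithConv Groth.Agent.GLForms AddMonoidAlgebra
open scoped LaurentPolynomial
noncomputable section

namespace Groth.Agent.HMCrit

attribute [-simp] LaurentPolynomial.single_eq_C_mul_T DualNumber.inr_eq_smul_eps

variable {k : Type u} [Field k] {n : ℕ}

/-- The Laurent algebra over an algebra. -/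
abbrev LR (R : Type v) [CommRing R] : Type v := AddMonoidAlgebra R ℤ

lemma det_weightMat (R : Type v) [CommRing R] {r : Fin n → ℤ} (hr : ∑ i, r i = 0) :
    (Matrix.diagonal fun i => (single (-r i) 1 : LR R)).det = 1 := by
  classical
  rw [Matrix.det_diagonal]
  have h : ∀ s : Finset (Fin n), ∏ i ∈ s, (single (-r i) 1 : LR R) = single (-∑ i ∈ s, r i) 1 := fun s => by
    induction s using Finset.induction_on with
    | empty => simp [one_def]
    | insert a s ha ih => rw [Finset.prod_insert ha, Finset.sum_insert ha, ih, single_mul_single, one_mul, neg_add]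
  rw [h, hr, neg_zero, one_def]

variable (r : Fin n → ℤ) (hr : ∑ i, r i = 0)

/-- Translation of a point by the inverse of the diagonal one-parameter subgroup, on the left. -/
def lt {R : Type v} [CommRing R] [Algebra k R] (x : SLn n k →ₐ[k] R) : SLn n k →ₐ[k] LR R :=
  pmul (SLn.pt n k _ (det_weightMat R hr)) (singleZeroAlgHom.comp x)

lemma mat_lt {R : Type v} [CommRing R] [Algebra k R] (x : SLn n k →ₐ[k] R) :
    mat (lt r hr x) = Matrix.diagonal (fun i => (single (-r i) 1 : LR R)) * (mat x).map (singleZeroAlgHom (R := k)) := by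
  rw [lt, mat_pmul, mat_comp, mat_pt]

lemma lt_comp {R R' : Type v} [CommRing R] [Algebra k R] [CommRing R'] [Algebra k R'] (g : R →ₐ[k] R')
    (x : SLn n k →ₐ[k] R) : (mapAlgHom ℤ g).comp (lt r hr x) = lt r hr (g.comp x) := by
  refine point_ext ?_
  rw [mat_comp, mat_lt, mat_lt, mat_comp, Matrix.map_mul, Matrix.map_map, Matrix.map_map, Matrix.diagonal_map (map_zero _)]
  congr 1
  · congr 1; funext i; simp
  · refine Matrix.ext fun i j => ?_
    simp

lemma lt_pmul {R : Type v} [CommRing R] [Algebra k R] (x h : SLn n k →ₐ[k] R) :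
    lt r hr (pmul x h) = pmul (lt r hr x) (singleZeroAlgHom.comp h) := by
  refine point_ext ?_
  rw [mat_pmul, mat_lt, mat_lt, mat_pmul, mat_comp, Matrix.map_mul, Matrix.mul_assoc]

/-- The component of weight `m`. -/
def wpart (f : SLn n k) (m : ℤ) : SLn n k := (lt r hr (AlgHom.id k (SLn n k)) f).coeff m

lemma coeff_lt {R : Type u} [CommRing R] [Algebra k R] (x : SLn n k →ₐ[k] R) (f : SLn n k) (m : ℤ) :
    (lt r hr x f).coeff m = x (wpart r hr f m) := by
  rw [← x.comp_id, ← lt_comp, AlgHom.comp_apply]
  exact coeff_mapAlgHom ..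

/-- A function of pure weight `m`. -/
def IsWt (f : SLn n k) (m : ℤ) : Prop := lt r hr (AlgHom.id k (SLn n k)) f = single m f

lemma IsWt.lt_eq {f : SLn n k} {m : ℤ} (h : IsWt r hr f m) {R : Type u} [CommRing R] [Algebra k R]
    (x : SLn n k →ₐ[k] R) : lt r hr x f = single m (x f) := by
  rw [← x.comp_id, ← lt_comp, AlgHom.comp_apply, h]
  exact mapAlgHom_single ..

lemma IsWt.wpart_eq {f : SLn n k} {m : ℤ} (h : IsWt r hr f m) (l : ℤ) :
    wpart r hr f l = if m = l then f else 0 := by
  rw [wpart, h, coeff_single, Finsupp.single_apply]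

lemma isWt_wpart (f : SLn n k) (m : ℤ) : IsWt r hr (wpart r hr f m) m := by
  let Θ := lt r hr (AlgHom.id k (SLn n k))
  let S : Multiplicative ℤ →* LR (LR (SLn n k)) :=
    { toFun := fun l => single (Multiplicative.toAdd l) (single (Multiplicative.toAdd l) 1)
      map_one' := by simp [one_def]
      map_mul' := fun a b => by simp [single_mul_single] }
  let Δ : LR (SLn n k) →ₐ[k] LR (LR (SLn n k)) :=
    (AddMonoidAlgebra.lift (SLn n k) (LR (LR (SLn n k))) ℤ S).restrictScalars k
  have hΔ : ∀ l b, Δ (single l b) = single l (single l b) := fun l b => by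
    show AddMonoidAlgebra.lift (SLn n k) (LR (LR (SLn n k))) ℤ S (single l b) = _
    rw [AddMonoidAlgebra.lift_single]
    simp [S, smul_single]
  have hΔc : ∀ x, (Δ x).coeff m = single m (x.coeff m) := fun x => by
    induction x using AddMonoidAlgebra.induction_linear with
    | zero => simp
    | add x y hx hy => simp [map_add, hx, hy, single_add]
    | single l b =>
      rw [hΔ, coeff_single, coeff_single, Finsupp.single_apply, Finsupp.single_apply]
      split_ifs with h
      · rw [h]
      · simp
  have key : (mapAlgHom ℤ Θ).comp Θ = Δ.comp Θ := by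
    refine point_ext ?_
    rw [lt_comp, AlgHom.comp_id, mat_lt, mat_lt, mat_comp, mat_lt, Matrix.map_mul, Matrix.map_mul, ← Matrix.mul_assoc,
      Matrix.diagonal_map (map_zero _), Matrix.diagonal_map (map_zero _), Matrix.diagonal_mul_diagonal,
      Matrix.map_map, Matrix.map_map]
    congr 1
    · congr 1
      funext i
      rw [hΔ]
      show single (-r i) 1 * single (0 : ℤ) (single (-r i) 1) = _
      rw [single_mul_single, add_zero, one_mul]
    · refine Matrix.ext fun i j => ?_
      exact (hΔ 0 _).symm
  have h := congrArg (fun x => AddMonoidAlgebra.coeff x m) (DFunLike.congr_fun key f)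
  simp only [AlgHom.comp_apply, hΔc] at h
  refine Eq.trans ?_ h
  exact (coeff_mapAlgHom ..).symm

lemma wpart_mem_rInv {A : Type u} [CommRing A] [HopfAlgebra k A] (q : SLn n k →ₐc[k] A) {f : SLn n k}
    (hf : f ∈ rInv q) (m : ℤ) : wpart r hr f m ∈ rInv q := by
  let il : SLn n k →ₐ[k] SLn n k ⊗[k] A := Algebra.TensorProduct.includeLeft
  let ir : A →ₐ[k] SLn n k ⊗[k] A := Algebra.TensorProduct.includeRight
  have key : ∀ g, pmul il (ir.comp (qa q)) g = TensorProduct.map LinearMap.id (q : SLn n k →ₗ[k] A) (CoalgebraStruct.comul g) :=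
    fun g => by
      rw [pmul, AlgHom.convMul_apply]
      generalize (CoalgebraStruct.comul (R := k) g : SLn n k ⊗[k] SLn n k) = t
      induction t using TensorProduct.induction_on with
      | zero => simp
      | tmul a b => simp [il, ir]
      | add a b ha hb => simp only [map_add, ha, hb]
  show TensorProduct.map LinearMap.id (q : SLn n k →ₗ[k] A) (CoalgebraStruct.comul (wpart r hr f m)) =
    wpart r hr f m ⊗ₜ[k] (1 : A)
  rw [← key, ← coeff_lt, lt_pmul, ← AlgHom.comp_assoc, rInv_apply_pmul q hf, coeff_lt]
  rfl

lemma sum_wpart (f : SLn n k) : ∑ l ∈ (lt r hr (AlgHom.id k (SLn n k)) f).coeff.support, wpart r hr f l = f := by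
  let ε : LR (SLn n k) →ₐ[k] SLn n k :=
    (AddMonoidAlgebra.lift (SLn n k) (SLn n k) ℤ 1).restrictScalars k
  have hε : ∀ l b, ε (single l b) = b := fun l b => by
    show AddMonoidAlgebra.lift (SLn n k) (SLn n k) ℤ 1 (single l b) = _
    rw [AddMonoidAlgebra.lift_single]
    simp
  have key : ε.comp (lt r hr (AlgHom.id k (SLn n k))) = AlgHom.id k _ := by
    refine point_ext ?_
    rw [mat_comp, mat_lt, Matrix.map_mul, Matrix.map_map, Matrix.diagonal_map (map_zero _)]
    simp only [hε, Matrix.diagonal_one, Matrix.one_mul]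
    refine Matrix.ext fun i j => ?_
    exact hε 0 _
  conv_rhs => rw [← show ε (lt r hr (AlgHom.id k (SLn n k)) f) = f from DFunLike.congr_fun key f,
    ← AddMonoidAlgebra.sum_coeff_single (lt r hr (AlgHom.id k (SLn n k)) f)]
  rw [map_finsuppSum]
  exact Finset.sum_congr rfl fun l _ => (hε l _).symm

/-! ### Laurent polynomials -/

lemma mem_range_toLaurent {x : k[T;T⁻¹]} (h : ∀ m < 0, x.coeff m = 0) :
    x ∈ (Polynomial.toLaurentAlg (R := k)).range := by
  rw [← AddMonoidAlgebra.sum_coeff_single x]
  refine Subalgebra.sum_mem _ fun m hm => ?_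
  have hm0 : 0 ≤ m := not_lt.1 fun h0 => Finsupp.mem_support_iff.1 hm (h m h0)
  refine ⟨Polynomial.monomial m.toNat (x.coeff m), ?_⟩
  show Polynomial.toLaurent (Polynomial.monomial m.toNat (x.coeff m)) = _
  rw [Polynomial.toLaurent_C_mul_T, ← LaurentPolynomial.single_eq_C_mul_T, Int.toNat_of_nonneg hm0]

lemma coeff_toLaurent_zero (p : Polynomial k) : (Polynomial.toLaurent p).coeff 0 = p.coeff 0 := by
  induction p using Polynomial.induction_on' with
  | add p q hp hq => rw [map_add, coeff_add, Finsupp.add_apply, hp, hq, Polynomial.coeff_add]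
  | monomial l c =>
    rw [Polynomial.toLaurent_C_mul_T, ← LaurentPolynomial.single_eq_C_mul_T, coeff_single, Polynomial.coeff_monomial,
      Finsupp.single_apply]
    simp

lemma coeff_toLaurent_neg (p : Polynomial k) {m : ℤ} (hm : m < 0) : (Polynomial.toLaurent p).coeff m = 0 := by
  induction p using Polynomial.induction_on' with
  | add p q hp hq => rw [map_add, coeff_add, Finsupp.add_apply, hp, hq, add_zero]
  | monomial l c =>
    rw [Polynomial.toLaurent_C_mul_T, ← LaurentPolynomial.single_eq_C_mul_T, coeff_single,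
      Finsupp.single_eq_of_ne (by omega)]

/-- A point with values in Laurent polynomials without negative powers is a polynomial point. -/
lemma exists_polyLift {R : Type v} [CommRing R] [Algebra k R] (φ : R →ₐ[k] k[T;T⁻¹])
    (h : ∀ f, ∀ m < 0, (φ f).coeff m = 0) :
    ∃ ψ : R →ₐ[k] Polynomial k, (Polynomial.toLaurentAlg (R := k)).comp ψ = φ := by
  let e := AlgEquiv.ofInjective (Polynomial.toLaurentAlg (R := k)) Polynomial.toLaurent_injective
  refine ⟨e.symm.toAlgHom.comp (φ.codRestrict _ fun f => mem_range_toLaurent (h f)), AlgHom.ext fun f => ?_⟩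
  show ((e (e.symm (φ.codRestrict _ _ f))) : k[T;T⁻¹]) = φ f
  rw [e.apply_symm_apply]
  rfl

lemma coeff_mul_eq_zero {R : Type v} [CommRing R] (x y : LR R) (a b : ℤ) (hx : ∀ i < a, x.coeff i = 0)
    (hy : ∀ j < b, y.coeff j = 0) {m : ℤ} (hm : m < a + b) : (x * y).coeff m = 0 := by
  classical
  rw [AddMonoidAlgebra.coeff_mul]
  refine Finset.sum_eq_zero fun i _ => Finset.sum_eq_zero fun j _ => ?_
  show (if i + j = m then x.coeff i * y.coeff j else 0) = 0
  split_ifs with h
  · by_cases hi : i < a
    · rw [hx i hi, zero_mul]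
    · rw [hy j (by omega), mul_zero]
  · rfl

/-! ### Second order vanishing -/

/-- A function killed by every first order deformation of a point vanishes to second order there. -/
lemma mem_sq_of_forall_dual {R : Type u} [CommRing R] [Algebra k R] (x : R →ₐ[k] k) {f : R} (hf : x f = 0)
    (h : ∀ y : R →ₐ[k] DualNumber k, (∀ a, (y a).fst = x a) → (y f).snd = 0) : f ∈ RingHom.ker x ^ 2 := by
  classical
  by_contra hne
  obtain ⟨φ, hφf, hφ⟩ := Submodule.exists_dual_map_eq_bot_of_notMem
    (R := k) (p := (RingHom.ker x ^ 2).restrictScalars k) (x := f) (by simpa using hne) inferInstance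
  have h2 : ∀ a b : R, φ ((a - algebraMap k R (x a)) * (b - algebraMap k R (x b))) = 0 := fun a b => by
    have hm : ∀ c : R, c - algebraMap k R (x c) ∈ RingHom.ker x := fun c => by simp [RingHom.mem_ker]
    have : φ ((a - algebraMap k R (x a)) * (b - algebraMap k R (x b))) ∈
        ((RingHom.ker x ^ 2).restrictScalars k).map φ :=
      Submodule.mem_map_of_mem (by rw [Submodule.restrictScalars_mem, pow_two]; exact Ideal.mul_mem_mul (hm a) (hm b))
    rwa [hφ, Submodule.mem_bot] at this
  let D : R → k := fun a => φ a - x a * φ 1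
  let y : R →ₐ[k] DualNumber k :=
    { toFun := fun a => TrivSqZeroExt.inl (x a) + TrivSqZeroExt.inr (D a)
      map_one' := by ext <;> simp [D]
      map_mul' := fun a b => by
        refine TrivSqZeroExt.ext (by simp) ?_
        have := h2 a b
        rw [sub_mul, mul_sub, mul_sub, Algebra.algebraMap_eq_smul_one, Algebra.algebraMap_eq_smul_one] at this
        simp only [smul_mul_assoc, mul_smul_comm, one_mul, mul_one, map_sub, map_smul, smul_eq_mul] at this
        simp only [D, TrivSqZeroExt.snd_mul, TrivSqZeroExt.snd_add, TrivSqZeroExt.snd_inl, TrivSqZeroExt.snd_inr,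
          TrivSqZeroExt.fst_add, TrivSqZeroExt.fst_inl, TrivSqZeroExt.fst_inr, map_mul, MulOpposite.smul_eq_mul_unop,
          MulOpposite.unop_op, smul_eq_mul, zero_add, add_zero]
        linear_combination this
      map_zero' := by ext <;> simp [D]
      map_add' := fun a b => by
        refine TrivSqZeroExt.ext (by simp) ?_
        simp [D]; ring
      commutes' := fun c => by
        refine TrivSqZeroExt.ext (by simp [TrivSqZeroExt.algebraMap_eq_inl]) ?_
        simp [D, TrivSqZeroExt.algebraMap_eq_inl, Algebra.algebraMap_eq_smul_one] }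
  refine hφf ?_
  have := h y fun a => by simp [y]
  simpa [y, D, hf] using this

lemma snd_aeval_dual {σ : Type*} [Fintype σ] [DecidableEq σ] (a b : σ → k) (G : MvPolynomial σ k) :
    (MvPolynomial.aeval (fun i => (TrivSqZeroExt.inl (a i) + TrivSqZeroExt.inr (b i) : DualNumber k)) G).fst =
        MvPolynomial.eval a G ∧
      (MvPolynomial.aeval (fun i => (TrivSqZeroExt.inl (a i) + TrivSqZeroExt.inr (b i) : DualNumber k)) G).snd =
        ∑ i, MvPolynomial.eval a (MvPolynomial.pderiv i G) * b i := by
  induction G using MvPolynomial.induction_on with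
  | C c => simp [TrivSqZeroExt.algebraMap_eq_inl]
  | add p q hp hq => simp [hp.1, hp.2, hq.1, hq.2, Finset.sum_add_distrib, add_mul]
  | mul_X p s hp =>
    refine ⟨by simp [hp.1], ?_⟩
    simp only [map_mul, MvPolynomial.aeval_X, TrivSqZeroExt.snd_mul, hp.1, hp.2, MvPolynomial.pderiv_mul,
      map_add, MvPolynomial.eval_X, TrivSqZeroExt.fst_add, TrivSqZeroExt.fst_inl, TrivSqZeroExt.fst_inr,
      TrivSqZeroExt.snd_add, TrivSqZeroExt.snd_inl, TrivSqZeroExt.snd_inr, MulOpposite.smul_eq_mul_unop,
      MulOpposite.unop_op, smul_eq_mul, add_zero, zero_add, add_mul, Finset.sum_add_distrib, Finset.sum_mul]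
    rw [add_comm]
    congr 1
    · exact Finset.sum_congr rfl fun i _ => by ring
    · rw [Finset.sum_eq_single s (fun i _ hi => by simp [MvPolynomial.pderiv_X_of_ne hi.symm]) (by simp)]
      simp

/-! ### Polynomial rings with positive weights -/

section Weighted
variable {σ : Type*} [Fintype σ] (w : σ → ℕ)

/-- Scaling the variables by powers of the parameter. -/
def wscale : MvPolynomial σ k →ₐ[k] LR (MvPolynomial σ k) :=
  MvPolynomial.aeval fun a => single (w a : ℤ) (MvPolynomial.X a)

lemma wscale_monomial (d : σ →₀ ℕ) (c : k) :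
    wscale w (MvPolynomial.monomial d c) = single ((Finsupp.weight w d : ℕ) : ℤ) (MvPolynomial.monomial d c) := by
  induction d using Finsupp.induction generalizing c with
  | zero =>
    rw [MvPolynomial.monomial_zero', map_zero, Nat.cast_zero, wscale, MvPolynomial.aeval_C]
    rfl
  | single_add a e d ha he ih =>
    rw [show MvPolynomial.monomial (Finsupp.single a e + d) c = MvPolynomial.X a ^ e * MvPolynomial.monomial d c by
      rw [MvPolynomial.X_pow_eq_monomial, MvPolynomial.monomial_mul, one_mul], map_mul, map_pow, ih, wscale,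
      MvPolynomial.aeval_X, single_pow, single_mul_single, map_add, Finsupp.weight_single]
    congr 1

lemma weight_eq_of_wscale {p : MvPolynomial σ k} {m : ℤ} (h : wscale w p = single m p) {d : σ →₀ ℕ}
    (hd : p.coeff d ≠ 0) : ((Finsupp.weight w d : ℕ) : ℤ) = m := by
  classical
  by_contra hne
  refine hd ?_
  have key : ∀ (p : MvPolynomial σ k), ((wscale w p).coeff ((Finsupp.weight w d : ℕ) : ℤ)).coeff d = p.coeff d := by
    intro p
    induction p using MvPolynomial.induction_on' with
    | monomial e c =>
      rw [wscale_monomial, coeff_single, Finsupp.single_apply]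
      by_cases he : e = d
      · subst he; simp
      · split_ifs <;> simp [MvPolynomial.coeff_monomial, he]
    | add p q hp hq => simp [map_add, MvPolynomial.coeff_add, hp, hq]
  rw [← key, h, coeff_single, Finsupp.single_eq_of_ne hne, MvPolynomial.coeff_zero]

/-- Changing the variables of weight `l` changes a homogeneous polynomial of weight at most `l` linearly. -/
lemma eval_add_of_homogeneous (hw : ∀ a, 1 ≤ w a) {p : MvPolynomial σ k} {m l : ℕ}
    (hp : ∀ d, p.coeff d ≠ 0 → Finsupp.weight w d = m) (hml : m ≤ l) (v ξ : σ → k) (hξ : ∀ a, w a ≠ l → ξ a = 0) :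
    MvPolynomial.eval (v + ξ) p =
      MvPolynomial.eval v p + if m = l then ∑ a, ξ a * p.coeff (Finsupp.single a 1) else 0 := by
  classical
  have key : ∀ d, p.coeff d ≠ 0 → p.coeff d * ∏ a, (v a + ξ a) ^ d a =
      p.coeff d * ∏ a, v a ^ d a + if m = l then ∑ a, ξ a * (if d = Finsupp.single a 1 then p.coeff d else 0) else 0 := by
    intro d hd
    by_cases hex : ∃ a, w a = l ∧ d a ≠ 0
    · obtain ⟨a, hal, had⟩ := hex
      have hle : d a * w a ≤ m := by
        rw [← hp d hd, Finsupp.weight_apply]
        exact (Finset.single_le_sum (f := fun i => d i • w i) (fun i _ => Nat.zero_le _) (Finsupp.mem_support_iff.2 had))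
      have h1 : d a = 1 ∧ m = l := by
        have := hw a
        have : w a ≤ d a * w a := Nat.le_mul_of_pos_left _ (Nat.pos_of_ne_zero had)
        refine ⟨?_, by omega⟩
        by_contra h1
        have : 2 * w a ≤ d a * w a := Nat.mul_le_mul_right _ (by omega)
        omega
      have h2 : d = Finsupp.single a 1 := by
        ext b
        by_cases hb : b = a
        · rw [hb, Finsupp.single_eq_same, h1.1]
        · rw [Finsupp.single_eq_of_ne hb]
          by_contra hdb
          have hsum := hp d hd
          rw [Finsupp.weight_apply, Finsupp.sum,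
            ← Finset.add_sum_erase _ _ (Finsupp.mem_support_iff.2 had)] at hsum
          have h3 : d b • w b ≤ ∑ x ∈ d.support.erase a, d x • w x :=
            Finset.single_le_sum (f := fun i => d i • w i) (fun i _ => Nat.zero_le _)
              (Finset.mem_erase.2 ⟨hb, Finsupp.mem_support_iff.2 hdb⟩)
          have := hw b
          rw [h1.1, one_smul, smul_eq_mul] at *
          have : 0 < d b * w b := Nat.mul_pos (Nat.pos_of_ne_zero hdb) this
          omega
      subst h2
      rw [if_pos h1.2, Finset.prod_eq_single a (fun b _ hb => by simp [hb]) (by simp),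
        Finset.prod_eq_single a (fun b _ hb => by simp [hb]) (by simp), Finset.sum_eq_single a (fun b _ hb => by
          rw [if_neg fun e => hb (Finsupp.single_left_injective one_ne_zero e).symm, mul_zero]) (by simp)]
      simp
      ring
    · push Not at hex
      have h0 : (if m = l then ∑ a, ξ a * (if d = Finsupp.single a 1 then p.coeff d else 0) else 0) = 0 := by
        split_ifs with h
        · refine Finset.sum_eq_zero fun a _ => ?_
          by_cases hd' : d = Finsupp.single a 1
          · rw [hξ a fun hal => by simpa [hd'] using hex a hal, zero_mul]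
          · rw [if_neg hd', mul_zero]
        · rfl
      rw [h0, add_zero]
      congr 1
      refine Finset.prod_congr rfl fun a _ => ?_
      by_cases hal : w a = l
      · rw [hex a hal, pow_zero, pow_zero]
      · rw [hξ a hal, add_zero]
  simp only [MvPolynomial.eval_eq', Pi.add_apply]
  rw [Finset.sum_congr rfl fun d hd => key d (MvPolynomial.mem_support_iff.1 hd), Finset.sum_add_distrib]
  congr 1
  split_ifs with h
  · rw [Finset.sum_comm]
    refine Finset.sum_congr rfl fun a _ => ?_
    rw [← Finset.mul_sum, Finset.sum_ite_eq']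
    split_ifs with h'
    · rfl
    · rw [MvPolynomial.notMem_support_iff.1 h']
  · simp

end Weighted

end Groth.Agent.HMCrit
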